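import Mathlib

/-! The action of triality and of the reflection on the thirteen classes. -/

set_option autoImplicit false

namespace H7.O8

def thPerm : List ℕ := [0, 6, 9, 3, 4, 5, 1, 7, 11, 2, 10, 8, 12]

def thCert : List (List ℕ) := [
  [13, 29, 29, 13, 19, 16, 13, 13, 14, 28, 21, 23, 13, 27, 39, 23, 41, 18, 4, 4, 8, 16, 38, 16, 8, 42, 8], [8, 15, 33, 16, 38, 16, 8, 42, 8],
  [9, 15, 33, 16, 38, 16, 8, 42, 8], [16, 38, 16, 8, 42, 8],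
  [15, 32, 15, 16, 38, 16, 8, 42, 8], [21, 35, 35, 32, 21, 9, 19, 45, 16, 38, 16, 8, 42, 8],
  [20, 29, 13, 18, 17, 12, 15, 28, 28, 15, 15, 12, 16, 15, 13, 15, 13, 13, 16, 18, 17, 14, 14, 17, 14, 14, 16, 38, 16, 8, 42, 8], [16, 38, 16, 8, 42, 8],
  [17, 14, 9, 4, 17, 14, 5, 5, 15, 32, 38, 42, 9, 4, 9, 4, 43, 32, 14, 4, 4, 8, 15, 32, 15, 16, 38, 16, 8, 42, 8], [21, 29, 13, 19, 17, 14, 17, 12, 14, 28, 28, 15, 13, 13, 16, 18, 18, 17, 14, 16, 38, 16, 8, 42, 8],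
  [16, 38, 16, 8, 42, 8], [9, 5, 15, 33, 42, 5, 8, 5, 8, 43, 39, 32, 15, 5, 9, 4, 17, 15, 9, 4, 16, 38, 16, 8, 42, 8],
  [16, 38, 16, 8, 42, 8]]

def rhPerm : List ℕ := [0, 1, 2, 9, 6, 5, 4, 11, 8, 3, 10, 7, 12]

def rhCert : List (List ℕ) := [
  [6, 36, 6, 4, 30, 4], [20, 29, 13, 14, 16, 12, 28, 20, 6, 36, 6, 4, 30, 4],
  [6, 36, 6, 4, 30, 4], [9, 15, 33, 39, 17, 6, 36, 6, 4, 30, 4],
  [8, 15, 33, 39, 17, 6, 36, 6, 4, 30, 4], [15, 33, 39, 17, 6, 36, 6, 4, 30, 4],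
  [9, 15, 33, 39, 17, 6, 36, 6, 4, 30, 4], [17, 14, 9, 4, 17, 14, 5, 5, 15, 32, 38, 42, 9, 4, 9, 4, 43, 32, 14, 4, 4, 8, 15, 33, 39, 17, 6, 36, 6, 4, 30, 4],
  [15, 33, 39, 17, 6, 36, 6, 4, 30, 4], [8, 15, 33, 39, 17, 6, 36, 6, 4, 30, 4],
  [15, 33, 39, 17, 6, 36, 6, 4, 30, 4], [5, 5, 14, 32, 42, 5, 8, 5, 8, 43, 38, 32, 15, 4, 4, 9, 4, 9, 4, 15, 16, 19, 44, 19, 6, 36, 6, 4, 30, 4],
  [5, 8, 11, 47, 11, 9, 43, 9, 40, 44, 18, 14, 15, 18, 44, 34, 8, 42, 8, 10, 46, 10, 9, 4, 17, 14, 9, 19, 44, 19, 6, 36, 6, 4, 30, 4]]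

def orbL : List ℕ := [0, 1, 2, 2, 1, 3, 1, 4, 4, 2, 5, 4, 6]

def firstL : List ℕ := [0, 1, 2, 5, 7, 10, 12]

def countTbl : List (List ℕ) := [
  [297, 216, 216], [243, 216, 270], [243, 270, 216], [81, 0, 0],
  [81, 0, 0], [45, 18, 18], [81, 0, 0], [27, 0, 54],
  [27, 54, 0], [81, 0, 0], [27, 54, 0], [27, 0, 54],
  [9, 36, 36]]

end H7.O8
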