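import Cfsg.Agent.H7.O8.TriGen
import Cfsg.Agent.H7.O8.CoverData
import Cfsg.Agent.H7.O8.ClassData

/-! Kernel checks for the invariants and for the action of triality on the representatives. -/

set_option autoImplicit false
set_option maxRecDepth 20000

set_option Elab.async false

namespace H7.O8

def eqb (a b : F3) : Bool := decide (a = b)

def qR (r : Row) : F3 := rv r 0 * rv r 7 + rv r 1 * rv r 6 + rv r 2 * rv r 5 + rv r 3 * rv r 4

/-- Number of fixed rows with a given value of the form. -/
def countR (m : FM) (k : F3) : ℕ := (allRows 8).countP fun r => eqR (rmul m r) r && eqb (qR r) k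

theorem count_check_0 : ∀ k : F3,
    countR (wF (rootWordsL.getD 0 [])) k = (countTbl.getD 0 []).getD k.val 0 := by decide +kernel

theorem count_check_1 : ∀ k : F3,
    countR (wF (rootWordsL.getD 1 [])) k = (countTbl.getD 1 []).getD k.val 0 := by decide +kernel

theorem count_check_2 : ∀ k : F3,
    countR (wF (rootWordsL.getD 2 [])) k = (countTbl.getD 2 []).getD k.val 0 := by decide +kernel

theorem count_check_3 : ∀ k : F3,
    countR (wF (rootWordsL.getD 3 [])) k = (countTbl.getD 3 []).getD k.val 0 := by decide +kernel

theorem count_check_4 : ∀ k : F3,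
    countR (wF (rootWordsL.getD 4 [])) k = (countTbl.getD 4 []).getD k.val 0 := by decide +kernel

theorem count_check_5 : ∀ k : F3,
    countR (wF (rootWordsL.getD 5 [])) k = (countTbl.getD 5 []).getD k.val 0 := by decide +kernel

theorem count_check_6 : ∀ k : F3,
    countR (wF (rootWordsL.getD 6 [])) k = (countTbl.getD 6 []).getD k.val 0 := by decide +kernel

theorem count_check_7 : ∀ k : F3,
    countR (wF (rootWordsL.getD 7 [])) k = (countTbl.getD 7 []).getD k.val 0 := by decide +kernel

theorem count_check_8 : ∀ k : F3,
    countR (wF (rootWordsL.getD 8 [])) k = (countTbl.getD 8 []).getD k.val 0 := by decide +kernel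

theorem count_check_9 : ∀ k : F3,
    countR (wF (rootWordsL.getD 9 [])) k = (countTbl.getD 9 []).getD k.val 0 := by decide +kernel

theorem count_check_10 : ∀ k : F3,
    countR (wF (rootWordsL.getD 10 [])) k = (countTbl.getD 10 []).getD k.val 0 := by decide +kernel

theorem count_check_11 : ∀ k : F3,
    countR (wF (rootWordsL.getD 11 [])) k = (countTbl.getD 11 []).getD k.val 0 := by decide +kernel

theorem count_check_12 : ∀ k : F3,
    countR (wF (rootWordsL.getD 12 [])) k = (countTbl.getD 12 []).getD k.val 0 := by decide +kernel

theorem count_check_nat : ∀ n, n < 13 → ∀ k : F3,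
    countR (wF (rootWordsL.getD n [])) k = (countTbl.getD n []).getD k.val 0 := by
  intro n hn
  interval_cases n
  exacts [count_check_0, count_check_1, count_check_2, count_check_3, count_check_4, count_check_5, count_check_6, count_check_7, count_check_8, count_check_9, count_check_10, count_check_11, count_check_12]

theorem count_check : ∀ c : Fin 13, ∀ k : F3,
    countR (wF (rootWordsL.getD c [])) k = (countTbl.getD c []).getD k.val 0 :=
  fun c => count_check_nat c.val c.isLt

def thP (c : Fin 13) : Fin 13 := ⟨thPerm.getD c 0 % 13, Nat.mod_lt _ (by norm_num)⟩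
def rhP (c : Fin 13) : Fin 13 := ⟨rhPerm.getD c 0 % 13, Nat.mod_lt _ (by norm_num)⟩

theorem used_check : ∀ c : Fin 13, (rootWordsL.getD c []).all (fun i => usedL.contains i) = true := by
  decide +kernel

theorem th_check : ∀ c : Fin 13, eqM (cjW (thCert.getD c []) (wF ((rootWordsL.getD c []).map tm)))
    (wF (rootWordsL.getD (thP c) [])) = true := by
  decide +kernel

theorem rh_check : ∀ c : Fin 13, eqM (cjW (rhCert.getD c []) (wF ((rootWordsL.getD c []).map rg)))
    (wF (rootWordsL.getD (rhP c) [])) = true := by
  decide +kernel

theorem root_order_check : ∀ c : Fin 13,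
    eqM (mul (wF (rootWordsL.getD c [])) (mul (wF (rootWordsL.getD c [])) (wF (rootWordsL.getD c []))))
      one = true ∧ eqM (wF (rootWordsL.getD c [])) one = false := by
  decide +kernel

/-- The values separating the classes. -/
def invT (c : Fin 13) : List (List ℕ) :=
  [countTbl.getD c [], countTbl.getD (thP c) [], countTbl.getD (thP (rhP c)) []]

theorem invT_inj : ∀ i j : Fin 13, invT i = invT j → i = j := by decide +kernel

theorem tbl_len : ∀ c : Fin 13, (countTbl.getD c []).length = 3 := by decide +kernel

def orb (c : Fin 13) : Fin 7 := ⟨orbL.getD c 0 % 7, Nat.mod_lt _ (by norm_num)⟩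
def first (a : Fin 7) : Fin 13 := ⟨firstL.getD a 0 % 13, Nat.mod_lt _ (by norm_num)⟩

theorem orb_first : ∀ a : Fin 7, orb (first a) = a := by decide +kernel
theorem orb_th : ∀ c : Fin 13, orb (thP c) = orb c ∧ orb (rhP c) = orb c := by decide +kernel

theorem reach_check : ∀ c : Fin 13, first (orb c) = c ∨ first (orb c) = thP c ∨ first (orb c) = rhP c ∨
    first (orb c) = thP (rhP c) ∨ first (orb c) = rhP (thP c) ∨ first (orb c) = thP (rhP (thP c)) := by
  decide +kernel

end H7.O8
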