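import Cfsg.Agent.H7.O8.Cover
import Cfsg.Agent.H7.O8.ClassChk

/-! The thirteen classes of subgroups of order three of `PΩ⁺₈(3)` and their seven orbits. -/

set_option autoImplicit false

namespace H7.O8

open Matrix H43 H43.D4 H43.AutPO

theorem rootW_cube (c : Fin 13) : rootW c ^ 3 = 1 := by
  refine wm_inj ?_
  rw [wm_one, pow_succ', pow_two, wm_mul, wm_mul, rootW, ← dec_wF, ← dec_mul, ← dec_mul,
    (eqM_iff _ _).1 (root_order_check c).1, dec_one]

theorem rootW_ne_one (c : Fin 13) : rootW c ≠ 1 := by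
  intro e
  refine dec_ne (root_order_check c).2 ?_
  rw [dec_wF, dec_one, show wW _ = rootW c from rfl, e, wm_one]

theorem vecs_nodup : ((allRows 8).map vec).Nodup := by
  have hsurj : ((allRows 8).map vec).toFinset = (Finset.univ : Finset Vc) := by
    refine Finset.eq_univ_iff_forall.2 fun v => ?_
    obtain ⟨r, hr, e⟩ := exists_vec v
    exact List.mem_toFinset.2 (List.mem_map.2 ⟨r, hr, e⟩)
  have h := congrArg Finset.card hsurj
  rw [List.card_toFinset, Finset.card_univ] at h
  have hl : ((allRows 8).map vec).dedup.length = ((allRows 8).map vec).length := by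
    rw [h, List.length_map, allRows_length]; simp
  exact List.dedup_eq_self.1 ((List.dedup_sublist _).eq_of_length hl)

/-- Number of fixed rows with a given value of the form. -/
noncomputable def fixN (x : W) (k : F3) : ℕ := Nat.card {v : Vc // v ᵥ* wm x = v ∧ qc v = k}

theorem fixN_eq (m : FM) (x : W) (h : dec m = wm x) (k : F3) : fixN x k = countR m k := by
  classical
  have hmem : ∀ v : Vc, v ∈ ((allRows 8).map vec) := fun v => by
    obtain ⟨r, hr, e⟩ := exists_vec v
    exact List.mem_map.2 ⟨r, hr, e⟩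
  rw [fixN, Nat.card_eq_fintype_card, Fintype.card_subtype,
    show (Finset.univ : Finset Vc) = ⟨(↑((allRows 8).map vec) : Multiset Vc), vecs_nodup⟩ from
      (Finset.eq_univ_iff_forall.2 hmem).symm]
  show Multiset.card (Multiset.filter _ (Multiset.ofList ((allRows 8).map vec))) = _
  rw [Multiset.filter_coe, Multiset.coe_card, ← List.countP_eq_length_filter, List.countP_map, countR]
  refine List.countP_congr fun r _ => ?_
  simp [eqR_iff, eqb, vec_rmul, h, qR, qc, vec]
  all_goals exact fun _ => decide_eq_true_iff.symm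

/-- Isometries preserve the form on rows. -/
theorem row_iso (g : OG) (v : Vc) : qc (v ᵥ* mat g) = qc v := by
  have h := mat_iso g
  have h1 : J * (mat g)ᵀ * J * mat g = 1 := inv_eq_J h
  have h2 : mat g * J * (mat g)ᵀ = J := by
    calc mat g * J * (mat g)ᵀ = mat g * (J * (mat g)ᵀ * J) * J := by
          simp only [Matrix.mul_assoc, J_sq, Matrix.mul_one]
      _ = J := by rw [mul_eq_one_comm.1 h1, Matrix.one_mul]
  rw [← mulVec_transpose]
  exact iso_of_eq (by rw [transpose_transpose, h2]) v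

theorem fixN_conj (g x : W) (k : F3) : fixN (g * x * g⁻¹) k = fixN x k := by
  refine Nat.card_congr ?_
  refine
    { toFun := fun v => ⟨v.1 ᵥ* wm g, ?_, ?_⟩
      invFun := fun v => ⟨v.1 ᵥ* wm g⁻¹, ?_, ?_⟩
      left_inv := fun v => Subtype.ext ?_
      right_inv := fun v => Subtype.ext ?_ }
  · have := congrArg (fun w => w ᵥ* wm g) v.2.1
    simpa [vecMul_vecMul, ← wm_mul, mul_assoc] using this
  · exact (row_iso g.1 v.1).trans v.2.2
  · rw [vecMul_vecMul, ← wm_mul, show g⁻¹ * (g * x * g⁻¹) = x * g⁻¹ by group, wm_mul, ← vecMul_vecMul,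
      v.2.1]
  · exact (row_iso g⁻¹.1 v.1).trans v.2.2
  · simp [vecMul_vecMul, ← wm_mul, wm_one]
  · simp [vecMul_vecMul, ← wm_mul, wm_one]

theorem fixN_pow (x : W) (h : x ^ 3 = 1) {e : ℕ} (he : e = 1 ∨ e = 2) (k : F3) :
    fixN (x ^ e) k = fixN x k := by
  rcases he with rfl | rfl
  · rw [pow_one]
  refine Nat.card_congr (Equiv.subtypeEquivRight fun v => ⟨fun hv => ⟨?_, hv.2⟩, fun hv => ⟨?_, hv.2⟩⟩)
  · calc v ᵥ* wm x = v ᵥ* wm (x ^ 2) ᵥ* wm (x ^ 2) := by
          rw [vecMul_vecMul, ← wm_mul, ← pow_add, show 2 + 2 = 3 + 1 from rfl, pow_add, h, one_mul,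
            pow_one]
      _ = v := by rw [hv.1, hv.1]
  · rw [pow_two, wm_mul, ← vecMul_vecMul, hv.1, hv.1]

/-- The representatives in `PΩ`. -/
noncomputable def rootP (c : Fin 13) : P := pmk Q (rootW c)

theorem rootP_cube (c : Fin 13) : rootP c ^ 3 = 1 := by rw [rootP, ← map_pow, rootW_cube, map_one]

theorem rootP_ne_one (c : Fin 13) : rootP c ≠ 1 := fun e =>
  rootW_ne_one c (lift_unique (rootW_cube c) (one_pow 3) (by rw [map_one]; exact e))

theorem orderOf_rootP (c : Fin 13) : orderOf (rootP c) = 3 := by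
  haveI : Fact (Nat.Prime 3) := ⟨by norm_num⟩
  exact orderOf_eq_prime (rootP_cube c) (rootP_ne_one c)

theorem used (c : Fin 13) : ∀ i ∈ rootWordsL.getD c [], i ∈ usedL := by
  intro i hi
  have := List.all_eq_true.1 (used_check c) i hi
  rwa [List.contains_iff_mem] at this

variable {θ : MulAut P}

theorem theta_root (hθ : Tria θ) (c : Fin 13) : ∃ g : P, θ (rootP c) = g * rootP (thP c) * g⁻¹ := by
  refine ⟨(pmk Q (wW (thCert.getD c [])))⁻¹, ?_⟩
  rw [rootP, rootW, theta_wW hθ _ (used c), rootP, rootW, inv_inv, ← map_inv, ← map_mul, ← map_mul]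
  refine congrArg _ ?_
  have h : wW (thCert.getD c []) * wW ((rootWordsL.getD c []).map tm) * (wW (thCert.getD c []))⁻¹ =
      wW (rootWordsL.getD (thP c) []) := wm_inj (by
    rw [← dec_cjW _ (dec_wF _), ← dec_wF]
    exact (eqM_iff _ _).1 (th_check c))
  rw [← h]; group

theorem rho_root (c : Fin 13) : ∃ g : P, rho F3 (rootP c) = g * rootP (rhP c) * g⁻¹ := by
  refine ⟨(pmk Q (wW (rhCert.getD c [])))⁻¹, ?_⟩
  rw [rootP, rootW, rho_wW _ (used c), rootP, rootW, inv_inv, ← map_inv, ← map_mul, ← map_mul]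
  refine congrArg _ ?_
  have h : wW (rhCert.getD c []) * wW ((rootWordsL.getD c []).map rg) * (wW (rhCert.getD c []))⁻¹ =
      wW (rootWordsL.getD (rhP c) []) := wm_inj (by
    rw [← dec_cjW _ (dec_wF _), ← dec_wF]
    exact (eqM_iff _ _).1 (rh_check c))
  rw [← h]; group

/-- Conjugate up to inversion. -/
def Rel (i j : Fin 13) : Prop := ∃ (g : P) (e : ℕ), (e = 1 ∨ e = 2) ∧ g * rootP i * g⁻¹ = rootP j ^ e

theorem rel_tbl {i j : Fin 13} (h : Rel i j) : countTbl.getD i [] = countTbl.getD j [] := by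
  obtain ⟨g, e, he, h⟩ := h
  obtain ⟨k, rfl⟩ := pmk_surjective (Q := Q) g
  have hW : k * rootW i * k⁻¹ = rootW j ^ e := by
    refine lift_unique (by rw [conj_pow, rootW_cube, mul_one, mul_inv_cancel]) ?_ ?_
    · rw [← pow_mul, mul_comm, pow_mul, rootW_cube, one_pow]
    · rw [map_mul, map_mul, map_inv, map_pow]; exact h
  have hk : ∀ t : F3, (countTbl.getD i []).getD t.val 0 = (countTbl.getD j []).getD t.val 0 := by
    intro t
    rw [← count_check, ← count_check, ← fixN_eq _ (rootW i) (dec_wF _) t,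
      ← fixN_eq _ (rootW j) (dec_wF _) t, ← fixN_conj k (rootW i) t, hW, fixN_pow _ (rootW_cube j) he]
  refine List.ext_getElem (by rw [tbl_len, tbl_len]) fun n h1 h2 => ?_
  have hn : n < 3 := by rw [tbl_len] at h1; exact h1
  have := hk (n : F3)
  rw [ZMod.val_natCast, Nat.mod_eq_of_lt hn, List.getD_eq_getElem _ _ h1,
    List.getD_eq_getElem _ _ h2] at this
  exact this

theorem rel_map {α : MulAut P} {π : Fin 13 → Fin 13}
    (hα : ∀ c, ∃ g : P, α (rootP c) = g * rootP (π c) * g⁻¹) {i j : Fin 13} (h : Rel i j) :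
    Rel (π i) (π j) := by
  obtain ⟨g, e, he, h⟩ := h
  obtain ⟨a, ha⟩ := hα i
  obtain ⟨b, hb⟩ := hα j
  refine ⟨b⁻¹ * α g * a, e, he, ?_⟩
  have h2 := congrArg α h
  rw [map_mul, map_mul, map_inv, map_pow, ha, hb, conj_pow] at h2
  calc b⁻¹ * α g * a * rootP (π i) * (b⁻¹ * α g * a)⁻¹
      = b⁻¹ * (α g * (a * rootP (π i) * a⁻¹) * (α g)⁻¹) * b := by group
    _ = rootP (π j) ^ e := by rw [h2]; group

/-- Distinct representatives generate non-conjugate subgroups. -/
theorem rel_eq {i j : Fin 13} (h : Rel i j) : i = j := by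
  obtain ⟨θ, -, hθ⟩ := exists_triality_hom (F := F3)
  apply invT_inj
  simp only [invT]
  rw [rel_tbl h, rel_tbl (rel_map (theta_root hθ) h),
    rel_tbl (rel_map (theta_root hθ) (rel_map (α := rho F3) rho_root h))]

/-- The representative subgroups. -/
noncomputable def rootS (c : Fin 13) : Subgroup P := Subgroup.zpowers (rootP c)

theorem card_rootS (c : Fin 13) : Nat.card (rootS c) = 3 := by
  rw [rootS, Nat.card_zpowers, orderOf_rootP]

theorem rootS_sep {i j : Fin 13} {g : P} (h : (rootS i).map (MulAut.conj g).toMonoidHom = rootS j) :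
    i = j := by
  have hmem : g * rootP i * g⁻¹ ∈ rootS j := by
    rw [← h]; exact ⟨_, Subgroup.mem_zpowers _, by simp⟩
  classical
  rw [rootS, mem_zpowers_iff_mem_range_orderOf, orderOf_rootP, Finset.mem_image] at hmem
  obtain ⟨e, he, hpe⟩ := hmem
  rw [Finset.mem_range] at he
  refine rel_eq ⟨g, e, ?_, hpe.symm⟩
  rcases Nat.eq_zero_or_pos e with rfl | h0
  · exfalso
    rw [pow_zero, eq_comm, conj_eq_one_iff] at hpe
    exact rootP_ne_one i hpe
  · omega

theorem rootS_cover (X : Subgroup P) (hX : Nat.card X = 3) :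
    ∃ (c : Fin 13) (g : P), X.map (MulAut.conj g).toMonoidHom = rootS c := by
  haveI : Fact (Nat.Prime 3) := ⟨by norm_num⟩
  obtain ⟨y, hy⟩ := (isCyclic_of_prime_card hX).exists_generator
  have hy3 : orderOf y = 3 := by rw [orderOf_eq_card_of_forall_mem_zpowers hy, hX]
  have hyP : orderOf (y : P) = 3 := by rw [Subgroup.orderOf_coe]; exact hy3
  have hXy : X = Subgroup.zpowers (y : P) := by
    refine le_antisymm (fun z hz => ?_) (Subgroup.zpowers_le.2 y.2)
    obtain ⟨k, hk⟩ := Subgroup.mem_zpowers_iff.1 (hy ⟨z, hz⟩)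
    exact ⟨k, by simpa using congrArg Subtype.val hk⟩
  obtain ⟨k, hk3, hk⟩ := exists_lift (x := (y : P)) (orderOf_dvd_iff_pow_eq_one.1 (dvd_of_eq hyP))
  have hk1 : k ≠ 1 := fun e => by
    rw [e, map_one] at hk
    rw [← hk, orderOf_one] at hyP
    norm_num at hyP
  obtain ⟨c, g, hg⟩ := cover k hk3 hk1
  refine ⟨c, pmk Q g, ?_⟩
  rw [hXy, MonoidHom.map_zpowers, rootS, rootP, ← hg]
  simp [hk]

theorem map_conj_rootS {α : MulAut P} {c d : Fin 13} {g : P} (h : α (rootP c) = g * rootP d * g⁻¹) :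
    (rootS c).map α.toMonoidHom = (rootS d).map (MulAut.conj g).toMonoidHom := by
  rw [rootS, rootS, MonoidHom.map_zpowers, MonoidHom.map_zpowers]
  simp [h]

variable (θ) in
/-- The automorphisms generated by inner automorphisms, triality and the reflection. -/
noncomputable def Gam : Subgroup (MulAut P) :=
  Subgroup.closure ((Cfsg.Inn P : Set (MulAut P)) ∪ {θ, rho F3})

theorem inn_le_Gam : Cfsg.Inn P ≤ Gam θ :=
  fun _ hx => Subgroup.subset_closure (Or.inl hx)

theorem conj_mem_Gam (g : P) : MulAut.conj g ∈ Gam θ := inn_le_Gam ⟨g, rfl⟩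

/-- An automorphism respects the orbits of representatives. -/
def Good (α : MulAut P) : Prop :=
  ∀ i, ∃ j, orb j = orb i ∧ ∃ g : P, (rootS i).map α.toMonoidHom = (rootS j).map (MulAut.conj g).toMonoidHom

theorem map_map_aut (H : Subgroup P) (α β : MulAut P) :
    (H.map β.toMonoidHom).map α.toMonoidHom = H.map (α * β).toMonoidHom := by
  rw [Subgroup.map_map]; rfl

theorem Good.mul {α β : MulAut P} (ha : Good α) (hb : Good β) : Good (α * β) := by
  intro i
  obtain ⟨j, hj, g, hg⟩ := hb i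
  obtain ⟨k, hk, g', hg'⟩ := ha j
  refine ⟨k, hk.trans hj, α g * g', ?_⟩
  rw [← map_map_aut, hg, map_map_aut,
    show α * MulAut.conj g = MulAut.conj (α g) * α from MulEquiv.ext fun x => by simp,
    ← map_map_aut, hg', map_map_aut, map_mul]

theorem Good.one : Good (1 : MulAut P) := fun i => ⟨i, rfl, 1, by rw [map_one]⟩

theorem good_of_mem (hθ : Tria θ) {α : MulAut P} (h : α ∈ Gam θ) : Good α := by
  haveI : Finite (MulAut P) :=
    Finite.of_injective (fun a => (a : P → P)) DFunLike.coe_injective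
  induction h using Subgroup.closure_induction with
  | mem x hx =>
    intro i
    rcases hx with hx | rfl | rfl
    · obtain ⟨g, rfl⟩ := hx
      exact ⟨i, rfl, g, rfl⟩
    · obtain ⟨g, hg⟩ := theta_root hθ i
      exact ⟨thP i, (orb_th i).1, g, map_conj_rootS hg⟩
    · obtain ⟨g, hg⟩ := rho_root i
      exact ⟨rhP i, (orb_th i).2, g, map_conj_rootS hg⟩
  | one => exact Good.one
  | mul a b _ _ ha hb => exact ha.mul hb
  | inv a _ ha =>
    have hp : ∀ n, Good (a ^ n) := fun n => by
      induction n with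
      | zero => rw [pow_zero]; exact Good.one
      | succ n ih => rw [pow_succ]; exact ih.mul ha
    have e : a⁻¹ = a ^ (orderOf a - 1) := by
      refine inv_eq_of_mul_eq_one_right ?_
      rw [← pow_succ', Nat.sub_add_cancel (orderOf_pos a), pow_orderOf_eq_one]
    rw [e]; exact hp _

theorem orb_eq_of_Gam (hθ : Tria θ) {α : MulAut P} (h : α ∈ Gam θ) {i j : Fin 13}
    (e : (rootS i).map α.toMonoidHom = rootS j) : orb i = orb j := by
  obtain ⟨k, hk, g, hg⟩ := good_of_mem hθ h i
  rw [← rootS_sep (hg.symm.trans e), hk]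

/-- Carried into one another by the group. -/
def Reach (θ : MulAut P) (i j : Fin 13) : Prop :=
  ∃ α ∈ Gam θ, (rootS i).map α.toMonoidHom = rootS j

theorem Reach.trans {i j k : Fin 13} (h : Reach θ i j) (h' : Reach θ j k) : Reach θ i k := by
  obtain ⟨a, ha, h1⟩ := h
  obtain ⟨b, hb, h2⟩ := h'
  exact ⟨b * a, mul_mem hb ha, by rw [← map_map_aut, h1, h2]⟩

theorem reach_step {π : Fin 13 → Fin 13} {α : MulAut P} (hm : α ∈ Gam θ)
    (hα : ∀ c, ∃ g : P, α (rootP c) = g * rootP (π c) * g⁻¹) (i : Fin 13) : Reach θ i (π i) := by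
  obtain ⟨g, hg⟩ := hα i
  refine ⟨(MulAut.conj g)⁻¹ * α, mul_mem (inv_mem (conj_mem_Gam g)) hm, ?_⟩
  rw [← map_map_aut, map_conj_rootS hg, map_map_aut, inv_mul_cancel]
  exact Subgroup.map_id _

theorem reach_first (hθ : Tria θ) (i : Fin 13) : Reach θ i (first (orb i)) := by
  have hT := reach_step (θ := θ) (Subgroup.subset_closure (Or.inr (Or.inl rfl))) (theta_root hθ)
  have hR := reach_step (θ := θ) (Subgroup.subset_closure (Or.inr (Or.inr rfl))) rho_root
  rcases reach_check i with h | h | h | h | h | h <;> rw [h]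
  · exact ⟨1, one_mem _, Subgroup.map_id _⟩
  · exact hT i
  · exact hR i
  · exact (hR i).trans (hT _)
  · exact (hT i).trans (hR _)
  · exact ((hT i).trans (hR _)).trans (hT _)

theorem seven_sep (hθ : Tria θ) {α : MulAut P} (h : α ∈ Gam θ) {a b : Fin 7}
    (e : (rootS (first a)).map α.toMonoidHom = rootS (first b)) : a = b := by
  rw [← orb_first a, ← orb_first b, orb_eq_of_Gam hθ h e]

theorem seven_cover (hθ : Tria θ) (X : Subgroup P) (hX : Nat.card X = 3) :
    ∃ (a : Fin 7), ∃ α ∈ Gam θ, X.map α.toMonoidHom = rootS (first a) := by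
  obtain ⟨c, g, hg⟩ := rootS_cover X hX
  obtain ⟨α, hα, h⟩ := reach_first hθ c
  exact ⟨orb c, α * MulAut.conj g, mul_mem hα (conj_mem_Gam g), by rw [← map_map_aut, hg, h]⟩

end H7.O8
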