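import Cfsg.Agent.H7.O8.StepChk
import Cfsg.Agent.H7.O8.CoverData

/-! Kernel checks for the classification of the elements of order three. -/

set_option autoImplicit false
set_option maxRecDepth 20000

set_option Elab.async false

namespace H7.O8

def target (n : ℕ) : FM := mul (u1F (n % 729)) (lF (repL.getD (n / 729) 0))

/-- Check of a conjugation tree below the marked targets of `s`. -/
def treeChk : List (ℕ × ℕ × List ℕ) → ℕ → Bool
  | [], _ => true
  | (n, p, w) :: l, s =>
    s.testBit p && eqM (cjW w (target p)) (target n) && treeChk l (s ||| 2 ^ n)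

/-- The targets reached by a tree. -/
def treeEnd : List (ℕ × ℕ × List ℕ) → ℕ → ℕ
  | [], s => s
  | (n, _, _) :: l, s => treeEnd l (s ||| 2 ^ n)

def treeAt : ℕ → List (ℕ × ℕ × List ℕ)
  | 0 => tree0 | 1 => tree1 | 2 => tree2 | 3 => tree3 | 4 => tree4 | 5 => tree5 | 6 => tree6
  | 7 => tree7 | 8 => tree8 | 9 => tree9 | 10 => tree10 | 11 => tree11 | _ => tree12

theorem treeChk_append : ∀ (a b : List (ℕ × ℕ × List ℕ)) (s : ℕ),
    treeChk (a ++ b) s = (treeChk a s && treeChk b (treeEnd a s))
  | [], b, s => by simp [treeChk, treeEnd]
  | (n, p, w) :: a, b, s => by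
    simp only [List.cons_append, treeChk, treeEnd, treeChk_append a b]
    simp only [Bool.and_assoc]

theorem treeChk_split {l : List (ℕ × ℕ × List ℕ)} {s : ℕ} (n : ℕ)
    (h₁ : treeChk (l.take n) s = true) (h₂ : treeChk (l.drop n) (treeEnd (l.take n) s) = true) :
    treeChk l s = true := by
  conv_lhs => rw [← List.take_append_drop n l]
  rw [treeChk_append, h₁, h₂]
  rfl

theorem tree_check_0 : treeChk (treeAt 0) (2 ^ rootL.getD 0 0) = true := by decide +kernel

theorem tree_check_1 : treeChk (treeAt 1) (2 ^ rootL.getD 1 0) = true := by decide +kernel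

theorem tree_check_2 : treeChk (treeAt 2) (2 ^ rootL.getD 2 0) = true := by decide +kernel

theorem tree_check_3 : treeChk (treeAt 3) (2 ^ rootL.getD 3 0) = true := by decide +kernel

theorem tree_check_4 : treeChk (treeAt 4) (2 ^ rootL.getD 4 0) = true := by decide +kernel

theorem tree_check_6 : treeChk (treeAt 6) (2 ^ rootL.getD 6 0) = true := by decide +kernel

theorem tree_check_7 : treeChk (treeAt 7) (2 ^ rootL.getD 7 0) = true := by decide +kernel

theorem tree_check_8 : treeChk (treeAt 8) (2 ^ rootL.getD 8 0) = true := by decide +kernel

theorem tree_check_9 : treeChk (treeAt 9) (2 ^ rootL.getD 9 0) = true := by decide +kernel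

theorem tree_check_10 : treeChk (treeAt 10) (2 ^ rootL.getD 10 0) = true := by decide +kernel

theorem tree_check_11 : treeChk (treeAt 11) (2 ^ rootL.getD 11 0) = true := by decide +kernel

theorem tree_check_12 : treeChk (treeAt 12) (2 ^ rootL.getD 12 0) = true := by decide +kernel

theorem tree_check_5_0 : treeChk ((tree5).take 160) (2 ^ rootL.getD 5 0) = true := by decide +kernel

theorem tree_check_5_1 : treeChk (((tree5).drop 160).take 160) (treeEnd ((tree5).take 160) (2 ^ rootL.getD 5 0)) = true := by decide +kernel

theorem tree_check_5_2 : treeChk ((((tree5).drop 160).drop 160).take 160) (treeEnd (((tree5).drop 160).take 160) (treeEnd ((tree5).take 160) (2 ^ rootL.getD 5 0))) = true := by decide +kernel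

theorem tree_check_5_3 : treeChk (((((tree5).drop 160).drop 160).drop 160).take 160) (treeEnd ((((tree5).drop 160).drop 160).take 160) (treeEnd (((tree5).drop 160).take 160) (treeEnd ((tree5).take 160) (2 ^ rootL.getD 5 0)))) = true := by decide +kernel

theorem tree_check_5_4 : treeChk ((((((tree5).drop 160).drop 160).drop 160).drop 160).take 160) (treeEnd (((((tree5).drop 160).drop 160).drop 160).take 160) (treeEnd ((((tree5).drop 160).drop 160).take 160) (treeEnd (((tree5).drop 160).take 160) (treeEnd ((tree5).take 160) (2 ^ rootL.getD 5 0))))) = true := by decide +kernel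

theorem tree_check_5_5 : treeChk ((((((tree5).drop 160).drop 160).drop 160).drop 160).drop 160) (treeEnd ((((((tree5).drop 160).drop 160).drop 160).drop 160).take 160) (treeEnd (((((tree5).drop 160).drop 160).drop 160).take 160) (treeEnd ((((tree5).drop 160).drop 160).take 160) (treeEnd (((tree5).drop 160).take 160) (treeEnd ((tree5).take 160) (2 ^ rootL.getD 5 0)))))) = true := by decide +kernel

theorem tree_check_5 : treeChk (treeAt 5) (2 ^ rootL.getD 5 0) = true :=
  (treeChk_split 160 tree_check_5_0 (treeChk_split 160 tree_check_5_1 (treeChk_split 160 tree_check_5_2 (treeChk_split 160 tree_check_5_3 (treeChk_split 160 tree_check_5_4 tree_check_5_5)))))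

theorem tree_check_nat : ∀ n, n < 13 → treeChk (treeAt n) (2 ^ rootL.getD n 0) = true := by
  intro n hn
  interval_cases n
  exacts [tree_check_0, tree_check_1, tree_check_2, tree_check_3, tree_check_4, tree_check_5, tree_check_6, tree_check_7, tree_check_8, tree_check_9, tree_check_10, tree_check_11, tree_check_12]

theorem tree_check : ∀ c : Fin 13, treeChk (treeAt c) (2 ^ rootL.getD c 0) = true :=
  fun c => tree_check_nat c.val c.isLt

theorem root_check : ∀ c : Fin 13,
    eqM (wF (rootWordsL.getD c [])) (target (rootL.getD c 0)) = true := by
  decide +kernel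

def orMask : List ℕ → ℕ
  | [] => 0
  | a :: l => a ||| orMask l

def covMask : ℕ := orMask ((List.range 13).map fun c => treeEnd (treeAt c) (2 ^ rootL.getD c 0))

def covOk (n : ℕ) : Bool :=
  covMask.testBit n || eqM (target n) one ||
    !eqM (mul (target n) (mul (target n) (target n))) one

theorem cover_check_0 : (List.range 405).all (fun j => covOk (0 + j)) = true := by
  decide +kernel

theorem cover_check_1 : (List.range 405).all (fun j => covOk (405 + j)) = true := by
  decide +kernel

theorem cover_check_2 : (List.range 405).all (fun j => covOk (810 + j)) = true := by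
  decide +kernel

theorem cover_check_3 : (List.range 405).all (fun j => covOk (1215 + j)) = true := by
  decide +kernel

theorem cover_check_4 : (List.range 405).all (fun j => covOk (1620 + j)) = true := by
  decide +kernel

theorem cover_check_5 : (List.range 405).all (fun j => covOk (2025 + j)) = true := by
  decide +kernel

theorem cover_check_6 : (List.range 405).all (fun j => covOk (2430 + j)) = true := by
  decide +kernel

theorem cover_check_7 : (List.range 405).all (fun j => covOk (2835 + j)) = true := by
  decide +kernel

theorem cover_check_8 : (List.range 405).all (fun j => covOk (3240 + j)) = true := by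
  decide +kernel

theorem cover_check : (List.range 3645).all (fun n => covMask.testBit n || eqM (target n) one ||
    !eqM (mul (target n) (mul (target n) (target n))) one) = true := by
  rw [List.all_eq_true]
  intro n hn
  rw [List.mem_range] at hn
  have hb : n % 405 ∈ List.range 405 := List.mem_range.2 (Nat.mod_lt _ (by norm_num))
  have hq : n / 405 < 9 := by omega
  show covOk n = true
  interval_cases h : n / 405
  · rw [show n = 0 + n % 405 by omega]; exact List.all_eq_true.1 cover_check_0 _ hb
  · rw [show n = 405 + n % 405 by omega]; exact List.all_eq_true.1 cover_check_1 _ hb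
  · rw [show n = 810 + n % 405 by omega]; exact List.all_eq_true.1 cover_check_2 _ hb
  · rw [show n = 1215 + n % 405 by omega]; exact List.all_eq_true.1 cover_check_3 _ hb
  · rw [show n = 1620 + n % 405 by omega]; exact List.all_eq_true.1 cover_check_4 _ hb
  · rw [show n = 2025 + n % 405 by omega]; exact List.all_eq_true.1 cover_check_5 _ hb
  · rw [show n = 2430 + n % 405 by omega]; exact List.all_eq_true.1 cover_check_6 _ hb
  · rw [show n = 2835 + n % 405 by omega]; exact List.all_eq_true.1 cover_check_7 _ hb
  · rw [show n = 3240 + n % 405 by omega]; exact List.all_eq_true.1 cover_check_8 _ hb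

end H7.O8
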