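import Cfsg.Agent.H7.O8.Levi
import Cfsg.Agent.H7.O8.CoverChk

/-! Every element of order three of `Ω⁺₈(3)` is conjugate to one of thirteen representatives. -/

set_option autoImplicit false

namespace H7.O8

open Matrix

noncomputable def rootW (c : Fin 13) : W := wW (rootWordsL.getD c [])

/-- The target is a conjugate of the representative. -/
def Reached (c : Fin 13) (n : ℕ) : Prop := ∃ g : W, dec (target n) = wm (g * rootW c * g⁻¹)

theorem treeEnd_sound (c : Fin 13) : ∀ (l : List (ℕ × ℕ × List ℕ)) (s : ℕ), treeChk l s = true →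
    (∀ n, s.testBit n = true → Reached c n) → ∀ n, (treeEnd l s).testBit n = true → Reached c n
  | [], s, _, hs, n, hn => hs n hn
  | (m, p, w) :: l, s, h, hs, n, hn => by
    simp only [treeChk, Bool.and_eq_true] at h
    obtain ⟨⟨hp, he⟩, hl⟩ := h
    refine treeEnd_sound c l _ hl (fun k hk => ?_) n hn
    rw [Nat.testBit_or, Bool.or_eq_true] at hk
    rcases hk with hk | hk
    · exact hs k hk
    · rw [Nat.testBit_two_pow, decide_eq_true_eq] at hk
      subst hk
      obtain ⟨g, hg⟩ := hs p hp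
      refine ⟨wW w * g, ?_⟩
      rw [← (eqM_iff _ _).1 he, dec_cjW w hg]
      exact congrArg wm (by group)

theorem orMask_mem : ∀ (l : List ℕ) (n : ℕ), (orMask l).testBit n = true → ∃ a ∈ l, a.testBit n = true
  | [], n, h => by simp [orMask] at h
  | a :: l, n, h => by
    rw [orMask, Nat.testBit_or, Bool.or_eq_true] at h
    rcases h with h | h
    · exact ⟨a, List.mem_cons_self, h⟩
    · obtain ⟨b, hb, e⟩ := orMask_mem l n h
      exact ⟨b, List.mem_cons_of_mem _ hb, e⟩

theorem covMask_sound (n : ℕ) (h : covMask.testBit n = true) : ∃ c, Reached c n := by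
  obtain ⟨a, ha, he⟩ := orMask_mem _ n h
  rw [List.mem_map] at ha
  obtain ⟨c, hc, rfl⟩ := ha
  rw [List.mem_range] at hc
  refine ⟨⟨c, hc⟩, treeEnd_sound ⟨c, hc⟩ _ _ (tree_check ⟨c, hc⟩) (fun k hk => ?_) n he⟩
  rw [Nat.testBit_two_pow, decide_eq_true_eq] at hk
  subst hk
  exact ⟨1, by rw [← (eqM_iff _ _).1 (root_check ⟨c, hc⟩), dec_wF, one_mul, inv_one, mul_one]; rfl⟩

/-- Completeness of the thirteen representatives. -/
theorem cover (x : W) (h3 : x ^ 3 = 1) (h1 : x ≠ 1) :
    ∃ (c : Fin 13) (g : W), g * x * g⁻¹ = rootW c := by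
  obtain ⟨g0, hg0⟩ := exists_conj_PS x h3
  obtain ⟨g1, c, r, hy⟩ := stepA hg0 (by rw [conj_pow, h3, mul_one, mul_inv_cancel])
  set y := g1 * (g0 * x * g0⁻¹) * g1⁻¹ with hydef
  have hn : 729 * r.val + c.val < 3645 := by omega
  have hym : dec (target (729 * r.val + c.val)) = wm y := by
    rw [hy, target, dec_mul, u1F, lF, dec_wF, dec_wF, wm_mul,
      show (729 * r.val + c.val) % 729 = c.val by omega,
      show (729 * r.val + c.val) / 729 = r.val by omega]
  have hk := List.all_eq_true.1 cover_check _ (List.mem_range.2 hn)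
  simp only [Bool.or_eq_true, Bool.not_eq_true'] at hk
  rcases hk with (hk | hk) | hk
  · obtain ⟨d, g, hg⟩ := covMask_sound _ hk
    have hyg : y = g * rootW d * g⁻¹ := wm_inj (hym.symm.trans hg)
    refine ⟨d, g⁻¹ * g1 * g0, ?_⟩
    have hx : rootW d = g⁻¹ * y * g := by rw [hyg]; group
    rw [hx, hydef]; group
  · exfalso
    have : y = 1 := wm_inj (by rw [← hym, (eqM_iff _ _).1 hk, dec_one, wm_one])
    apply h1
    simpa [hydef, conj_eq_one_iff] using this
  · exfalso
    apply dec_ne hk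
    rw [dec_mul, dec_mul, hym, dec_one, ← wm_mul, ← wm_mul, ← pow_two, ← pow_succ', hydef, conj_pow,
      conj_pow, h3, mul_one, mul_inv_cancel, mul_one, mul_inv_cancel, wm_one]

end H7.O8
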