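import Cfsg.Agent.H7.O8.Mat

/-! Root elements of `Ω⁺₈(3)` and their images under triality and under the basic reflection. -/

set_option autoImplicit false

namespace H7.O8

def gensF : List FM := [
  [(65, 64), (130, 0), (4, 0), (8, 0), (16, 0), (32, 0), (64, 0), (128, 0)],
  [(65, 0), (130, 128), (4, 0), (8, 0), (16, 0), (32, 0), (64, 0), (128, 0)],
  [(33, 32), (2, 0), (132, 0), (8, 0), (16, 0), (32, 0), (64, 0), (128, 0)],
  [(33, 0), (2, 0), (132, 128), (8, 0), (16, 0), (32, 0), (64, 0), (128, 0)],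
  [(17, 16), (2, 0), (4, 0), (136, 0), (16, 0), (32, 0), (64, 0), (128, 0)],
  [(17, 0), (2, 0), (4, 0), (136, 128), (16, 0), (32, 0), (64, 0), (128, 0)],
  [(9, 8), (2, 0), (4, 0), (8, 0), (144, 0), (32, 0), (64, 0), (128, 0)],
  [(9, 0), (2, 0), (4, 0), (8, 0), (144, 128), (32, 0), (64, 0), (128, 0)],
  [(5, 4), (2, 0), (4, 0), (8, 0), (16, 0), (160, 0), (64, 0), (128, 0)],
  [(5, 0), (2, 0), (4, 0), (8, 0), (16, 0), (160, 128), (64, 0), (128, 0)],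
  [(3, 2), (2, 0), (4, 0), (8, 0), (16, 0), (32, 0), (192, 0), (128, 0)],
  [(3, 0), (2, 0), (4, 0), (8, 0), (16, 0), (32, 0), (192, 128), (128, 0)],
  [(1, 0), (34, 32), (68, 0), (8, 0), (16, 0), (32, 0), (64, 0), (128, 0)],
  [(1, 0), (34, 0), (68, 64), (8, 0), (16, 0), (32, 0), (64, 0), (128, 0)],
  [(1, 0), (18, 16), (4, 0), (72, 0), (16, 0), (32, 0), (64, 0), (128, 0)],
  [(1, 0), (18, 0), (4, 0), (72, 64), (16, 0), (32, 0), (64, 0), (128, 0)],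
  [(1, 0), (10, 8), (4, 0), (8, 0), (80, 0), (32, 0), (64, 0), (128, 0)],
  [(1, 0), (10, 0), (4, 0), (8, 0), (80, 64), (32, 0), (64, 0), (128, 0)],
  [(1, 0), (6, 4), (4, 0), (8, 0), (16, 0), (96, 0), (64, 0), (128, 0)],
  [(1, 0), (6, 0), (4, 0), (8, 0), (16, 0), (96, 64), (64, 0), (128, 0)],
  [(1, 0), (2, 0), (20, 16), (40, 0), (16, 0), (32, 0), (64, 0), (128, 0)],
  [(1, 0), (2, 0), (20, 0), (40, 32), (16, 0), (32, 0), (64, 0), (128, 0)],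
  [(1, 0), (2, 0), (12, 8), (8, 0), (48, 0), (32, 0), (64, 0), (128, 0)],
  [(1, 0), (2, 0), (12, 0), (8, 0), (48, 32), (32, 0), (64, 0), (128, 0)],
  [(1, 0), (2, 0), (4, 0), (8, 0), (16, 0), (32, 0), (65, 0), (130, 2)],
  [(1, 0), (2, 0), (4, 0), (8, 0), (16, 0), (32, 0), (65, 1), (130, 0)],
  [(1, 0), (2, 0), (4, 0), (8, 0), (16, 0), (33, 0), (64, 0), (132, 4)],
  [(1, 0), (2, 0), (4, 0), (8, 0), (16, 0), (33, 1), (64, 0), (132, 0)],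
  [(1, 0), (2, 0), (4, 0), (8, 0), (16, 0), (34, 0), (68, 4), (128, 0)],
  [(1, 0), (2, 0), (4, 0), (8, 0), (16, 0), (34, 2), (68, 0), (128, 0)],
  [(1, 0), (2, 0), (4, 0), (8, 0), (17, 0), (32, 0), (64, 0), (136, 8)],
  [(1, 0), (2, 0), (4, 0), (8, 0), (17, 1), (32, 0), (64, 0), (136, 0)],
  [(1, 0), (2, 0), (4, 0), (8, 0), (18, 0), (32, 0), (72, 8), (128, 0)],
  [(1, 0), (2, 0), (4, 0), (8, 0), (18, 2), (32, 0), (72, 0), (128, 0)],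
  [(1, 0), (2, 0), (4, 0), (8, 0), (20, 0), (40, 8), (64, 0), (128, 0)],
  [(1, 0), (2, 0), (4, 0), (8, 0), (20, 4), (40, 0), (64, 0), (128, 0)],
  [(1, 0), (2, 0), (4, 0), (9, 0), (16, 0), (32, 0), (64, 0), (144, 16)],
  [(1, 0), (2, 0), (4, 0), (9, 1), (16, 0), (32, 0), (64, 0), (144, 0)],
  [(1, 0), (2, 0), (4, 0), (10, 0), (16, 0), (32, 0), (80, 16), (128, 0)],
  [(1, 0), (2, 0), (4, 0), (10, 2), (16, 0), (32, 0), (80, 0), (128, 0)],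
  [(1, 0), (2, 0), (4, 0), (12, 0), (16, 0), (48, 16), (64, 0), (128, 0)],
  [(1, 0), (2, 0), (4, 0), (12, 4), (16, 0), (48, 0), (64, 0), (128, 0)],
  [(1, 0), (2, 0), (5, 0), (8, 0), (16, 0), (32, 0), (64, 0), (160, 32)],
  [(1, 0), (2, 0), (5, 1), (8, 0), (16, 0), (32, 0), (64, 0), (160, 0)],
  [(1, 0), (2, 0), (6, 0), (8, 0), (16, 0), (32, 0), (96, 32), (128, 0)],
  [(1, 0), (2, 0), (6, 2), (8, 0), (16, 0), (32, 0), (96, 0), (128, 0)],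
  [(1, 0), (3, 0), (4, 0), (8, 0), (16, 0), (32, 0), (64, 0), (192, 64)],
  [(1, 0), (3, 1), (4, 0), (8, 0), (16, 0), (32, 0), (64, 0), (192, 0)]]

def gensT : List FM := [
  [(1, 0), (2, 0), (4, 0), (8, 0), (16, 0), (32, 0), (65, 1), (130, 0)],
  [(1, 0), (2, 0), (4, 0), (8, 0), (16, 0), (32, 0), (65, 0), (130, 2)],
  [(1, 0), (2, 0), (4, 0), (8, 0), (16, 0), (33, 1), (64, 0), (132, 0)],
  [(1, 0), (2, 0), (4, 0), (8, 0), (16, 0), (33, 0), (64, 0), (132, 4)],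
  [(1, 0), (2, 0), (4, 0), (8, 0), (17, 1), (32, 0), (64, 0), (136, 0)],
  [(1, 0), (2, 0), (4, 0), (8, 0), (17, 0), (32, 0), (64, 0), (136, 8)],
  [(1, 0), (2, 0), (4, 0), (9, 1), (16, 0), (32, 0), (64, 0), (144, 0)],
  [(1, 0), (2, 0), (4, 0), (9, 0), (16, 0), (32, 0), (64, 0), (144, 16)],
  [(1, 0), (2, 0), (5, 1), (8, 0), (16, 0), (32, 0), (64, 0), (160, 0)],
  [(1, 0), (2, 0), (5, 0), (8, 0), (16, 0), (32, 0), (64, 0), (160, 32)],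
  [(1, 0), (3, 1), (4, 0), (8, 0), (16, 0), (32, 0), (64, 0), (192, 0)],
  [(1, 0), (3, 0), (4, 0), (8, 0), (16, 0), (32, 0), (64, 0), (192, 64)],
  [(1, 0), (2, 0), (4, 0), (8, 0), (16, 0), (34, 2), (68, 0), (128, 0)],
  [(1, 0), (2, 0), (4, 0), (8, 0), (16, 0), (34, 0), (68, 4), (128, 0)],
  [(1, 0), (2, 0), (4, 0), (8, 0), (18, 2), (32, 0), (72, 0), (128, 0)],
  [(1, 0), (2, 0), (4, 0), (8, 0), (18, 0), (32, 0), (72, 8), (128, 0)],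
  [(1, 0), (2, 0), (4, 0), (10, 2), (16, 0), (32, 0), (80, 0), (128, 0)],
  [(1, 0), (2, 0), (4, 0), (10, 0), (16, 0), (32, 0), (80, 16), (128, 0)],
  [(1, 0), (2, 0), (6, 2), (8, 0), (16, 0), (32, 0), (96, 0), (128, 0)],
  [(1, 0), (2, 0), (6, 0), (8, 0), (16, 0), (32, 0), (96, 32), (128, 0)],
  [(1, 0), (2, 0), (4, 0), (8, 0), (20, 4), (40, 0), (64, 0), (128, 0)],
  [(1, 0), (2, 0), (4, 0), (8, 0), (20, 0), (40, 8), (64, 0), (128, 0)],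
  [(1, 0), (2, 0), (4, 0), (12, 4), (16, 0), (48, 0), (64, 0), (128, 0)],
  [(1, 0), (2, 0), (4, 0), (12, 0), (16, 0), (48, 16), (64, 0), (128, 0)],
  [(65, 0), (130, 128), (4, 0), (8, 0), (16, 0), (32, 0), (64, 0), (128, 0)],
  [(65, 64), (130, 0), (4, 0), (8, 0), (16, 0), (32, 0), (64, 0), (128, 0)],
  [(33, 0), (2, 0), (132, 128), (8, 0), (16, 0), (32, 0), (64, 0), (128, 0)],
  [(33, 32), (2, 0), (132, 0), (8, 0), (16, 0), (32, 0), (64, 0), (128, 0)],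
  [(1, 0), (34, 0), (68, 64), (8, 0), (16, 0), (32, 0), (64, 0), (128, 0)],
  [(1, 0), (34, 32), (68, 0), (8, 0), (16, 0), (32, 0), (64, 0), (128, 0)],
  [(17, 0), (2, 0), (4, 0), (136, 128), (16, 0), (32, 0), (64, 0), (128, 0)],
  [(17, 16), (2, 0), (4, 0), (136, 0), (16, 0), (32, 0), (64, 0), (128, 0)],
  [(1, 0), (18, 0), (4, 0), (72, 64), (16, 0), (32, 0), (64, 0), (128, 0)],
  [(1, 0), (18, 16), (4, 0), (72, 0), (16, 0), (32, 0), (64, 0), (128, 0)],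
  [(1, 0), (2, 0), (20, 0), (40, 32), (16, 0), (32, 0), (64, 0), (128, 0)],
  [(1, 0), (2, 0), (20, 16), (40, 0), (16, 0), (32, 0), (64, 0), (128, 0)],
  [(9, 0), (2, 0), (4, 0), (8, 0), (144, 128), (32, 0), (64, 0), (128, 0)],
  [(9, 8), (2, 0), (4, 0), (8, 0), (144, 0), (32, 0), (64, 0), (128, 0)],
  [(1, 0), (10, 0), (4, 0), (8, 0), (80, 64), (32, 0), (64, 0), (128, 0)],
  [(1, 0), (10, 8), (4, 0), (8, 0), (80, 0), (32, 0), (64, 0), (128, 0)],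
  [(1, 0), (2, 0), (12, 0), (8, 0), (48, 32), (32, 0), (64, 0), (128, 0)],
  [(1, 0), (2, 0), (12, 8), (8, 0), (48, 0), (32, 0), (64, 0), (128, 0)],
  [(5, 0), (2, 0), (4, 0), (8, 0), (16, 0), (160, 128), (64, 0), (128, 0)],
  [(5, 4), (2, 0), (4, 0), (8, 0), (16, 0), (160, 0), (64, 0), (128, 0)],
  [(1, 0), (6, 0), (4, 0), (8, 0), (16, 0), (96, 64), (64, 0), (128, 0)],
  [(1, 0), (6, 4), (4, 0), (8, 0), (16, 0), (96, 0), (64, 0), (128, 0)],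
  [(3, 0), (2, 0), (4, 0), (8, 0), (16, 0), (32, 0), (192, 128), (128, 0)],
  [(3, 2), (2, 0), (4, 0), (8, 0), (16, 0), (32, 0), (192, 0), (128, 0)]]

def JF : FM := [(128, 0), (64, 0), (32, 0), (16, 0), (8, 0), (4, 0), (2, 0), (1, 0)]

def RF : FM := [(128, 128), (2, 0), (4, 0), (8, 0), (16, 0), (32, 0), (64, 0), (1, 1)]

def tmL : List ℕ := [20, 21, 2, 3, 4, 5, 44, 45, 39, 38, 10, 11, 12, 13, 14, 15, 43, 42, 36, 37, 0, 1, 22, 23, 34, 35, 26, 27, 28, 29, 30, 31, 32, 33, 24, 25, 18, 19, 9, 8, 40, 41, 17, 16, 6, 7, 46, 47]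

def tm2L : List ℕ := [0, 1, 16, 17, 19, 18, 6, 7, 8, 9, 35, 34, 12, 13, 14, 15, 2, 3, 5, 4, 47, 46, 22, 23, 24, 25, 38, 39, 28, 29, 45, 44, 32, 33, 11, 10, 36, 37, 26, 27, 40, 41, 42, 43, 31, 30, 21, 20]

def rgL : List ℕ := [47, 46, 43, 42, 37, 36, 31, 30, 27, 26, 25, 24, 12, 13, 14, 15, 16, 17, 18, 19, 20, 21, 22, 23, 11, 10, 9, 8, 28, 29, 7, 6, 32, 33, 34, 35, 5, 4, 38, 39, 40, 41, 3, 2, 44, 45, 1, 0]

def lGensL : List ℕ := [12, 13, 14, 15, 16, 17, 18, 19, 20, 21, 22, 23, 28, 29, 32, 33, 34, 35, 38, 39, 40, 41, 44, 45]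

end H7.O8
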