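import Cfsg.Agent.H7.O8.PSub
import Cfsg.Agent.H7.O8.GenData

/-! Words in root elements. -/

set_option autoImplicit false

namespace H7.O8

open Matrix

def gF (i : ℕ) : FM := gensF.getD (i % 48) one

def invI (i : ℕ) : ℕ := (i % 48) ^^^ 1

theorem invI_lt (i : ℕ) : invI i < 48 := by
  have h : ∀ k : Fin 48, k.val ^^^ 1 < 48 := by decide +kernel
  exact h ⟨i % 48, Nat.mod_lt _ (by norm_num)⟩

theorem gF_transpose : ∀ i : Fin 48, dec (gensT.getD i one) = (dec (gF i))ᵀ := by decide +kernel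

theorem gF_iso_check : ∀ i : Fin 48, eqM (mul (mul (gensT.getD i one) JF) (gF i)) JF = true := by
  decide +kernel

theorem dec_JF : dec JF = J := by decide +kernel

theorem gF_iso (i : ℕ) : (dec (gF i))ᵀ * J * dec (gF i) = J := by
  have hlt : i % 48 < 48 := Nat.mod_lt _ (by norm_num)
  have h := (eqM_iff _ _).1 (gF_iso_check ⟨i % 48, hlt⟩)
  have e : gF (i % 48) = gF i := by rw [gF, gF, Nat.mod_mod]
  rw [dec_mul, dec_mul, dec_JF, gF_transpose] at h
  simp only [e] at h
  exact h

theorem gF_cube_check : ∀ i : Fin 48, eqM (mul (gF i) (mul (gF i) (gF i))) one = true := by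
  decide +kernel

theorem gF_cube (i : ℕ) : dec (gF i) * (dec (gF i) * dec (gF i)) = 1 := by
  have hlt : i % 48 < 48 := Nat.mod_lt _ (by norm_num)
  have h := (eqM_iff _ _).1 (gF_cube_check ⟨i % 48, hlt⟩)
  have e : gF (i % 48) = gF i := by rw [gF, gF, Nat.mod_mod]
  simpa [dec_mul, dec_one, e] using h

noncomputable def gW (i : ℕ) : W :=
  ⟨mkO (dec (gF i)) (gF_iso i), mem_W_of_cube (mat_inj (by
    rw [mat_pow, mat_mkO, pow_succ', pow_two, mat_one, gF_cube]))⟩

theorem wm_gW (i : ℕ) : wm (gW i) = dec (gF i) := mat_mkO _ (gF_iso i)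

theorem gF_inv_check : ∀ i : Fin 48, eqM (mul (gF i) (gF (invI i))) one = true := by
  decide +kernel

theorem gW_inv (i : ℕ) : (gW i)⁻¹ = gW (invI i) := by
  refine inv_eq_of_mul_eq_one_right (wm_inj ?_)
  have hlt : i % 48 < 48 := Nat.mod_lt _ (by norm_num)
  have h := (eqM_iff _ _).1 (gF_inv_check ⟨i % 48, hlt⟩)
  have e : gF (i % 48) = gF i := by rw [gF, gF, Nat.mod_mod]
  have e' : invI (i % 48) = invI i := by rw [invI, invI, Nat.mod_mod]
  simp only [e, e'] at h
  rw [wm_mul, wm_gW, wm_gW, ← dec_mul, h, dec_one, wm_one]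

/-- Word as a group element. -/
noncomputable def wW : List ℕ → W
  | [] => 1
  | i :: w => gW i * wW w

/-- Word as a matrix. -/
def wF : List ℕ → FM
  | [] => one
  | i :: w => mul (gF i) (wF w)

theorem dec_wF : ∀ w, dec (wF w) = wm (wW w)
  | [] => by rw [wF, wW, dec_one, wm_one]
  | i :: w => by rw [wF, wW, dec_mul, wm_mul, wm_gW, dec_wF w]

theorem wW_append : ∀ a b, wW (a ++ b) = wW a * wW b
  | [], b => (one_mul _).symm
  | i :: a, b => by rw [List.cons_append, wW, wW, wW_append a b, mul_assoc]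

attribute [local irreducible] gW mul wm

/-- Conjugation by a generator. -/
def cj (i : ℕ) (m : FM) : FM := mul (gF i) (mul m (gF (invI i)))

theorem dec_cj (i : ℕ) {m : FM} {x : W} (h : dec m = wm x) :
    dec (cj i m) = wm (gW i * x * (gW i)⁻¹) := by
  rw [cj, dec_mul, dec_mul, gW_inv, wm_mul, wm_mul, wm_gW, wm_gW, h, Matrix.mul_assoc]

/-- Conjugation by a word, the last letter acting first. -/
def cjW : List ℕ → FM → FM
  | [], m => m
  | i :: w, m => cj i (cjW w m)

theorem dec_cjW : ∀ (w : List ℕ) {m : FM} {x : W}, dec m = wm x →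
    dec (cjW w m) = wm (wW w * x * (wW w)⁻¹)
  | [], m, x, h => by simpa [cjW, wW] using h
  | i :: w, m, x, h => by
    rw [cjW, dec_cj i (dec_cjW w h), wW]
    exact congrArg wm (by group)

end H7.O8
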