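import Cfsg.Agent.H7.O8.StepChk

/-! The Levi step: the elements of the Sylow subgroup over five representatives. -/

set_option autoImplicit false
set_option maxRecDepth 20000

namespace H7.O8

open Matrix

theorem wW_uWord (c : Fin 729) :
    wW (uWord c) = u1 (n3 c 5, n3 c 4, n3 c 3, n3 c 2, n3 c 1, n3 c 0) :=
  wm_inj (by rw [← dec_wF, wm_u1]; exact u1F_eq c)

theorem wW_lWord (k : Fin 729) : wW (lWord k) =
    u2 (n3 (k.val / 9) 3, n3 (k.val / 9) 2, n3 (k.val / 9) 1, n3 (k.val / 9) 0) *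
      u3 (n3 (k.val % 9) 1, n3 (k.val % 9) 0) := by
  rw [lWord_split, wW_append]
  refine congrArg₂ _ (wm_inj ?_) (wm_inj ?_)
  · rw [← dec_wF, wm_u2]; exact u2F_eq ⟨k.val / 9, by omega⟩
  · rw [← dec_wF, wm_u3]; exact u3F_eq ⟨k.val % 9, by omega⟩

theorem par_onto : ∀ a b c d e f : F3, ∃ i : Fin 729,
    n3 i 5 = a ∧ n3 i 4 = b ∧ n3 i 3 = c ∧ n3 i 2 = d ∧ n3 i 1 = e ∧ n3 i 0 = f := by
  intro a b c d e f
  have ha := a.val_lt; have hb := b.val_lt; have hc := c.val_lt; have hd := d.val_lt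
  have he := e.val_lt; have hf := f.val_lt
  refine ⟨⟨a.val * 243 + b.val * 81 + c.val * 27 + d.val * 9 + e.val * 3 + f.val, by omega⟩,
    ?_, ?_, ?_, ?_, ?_, ?_⟩ <;> simp only [n3, dig]
  · exact (congrArg Nat.cast (by omega)).trans (ZMod.natCast_zmod_val a)
  · exact (congrArg Nat.cast (by omega)).trans (ZMod.natCast_zmod_val b)
  · exact (congrArg Nat.cast (by omega)).trans (ZMod.natCast_zmod_val c)
  · exact (congrArg Nat.cast (by omega)).trans (ZMod.natCast_zmod_val d)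
  · exact (congrArg Nat.cast (by omega)).trans (ZMod.natCast_zmod_val e)
  · exact (congrArg Nat.cast (by omega)).trans (ZMod.natCast_zmod_val f)

theorem lpar_onto (a b c d s t : F3) : ∃ k : Fin 729, n3 (k.val / 9) 3 = a ∧ n3 (k.val / 9) 2 = b ∧
    n3 (k.val / 9) 1 = c ∧ n3 (k.val / 9) 0 = d ∧ n3 (k.val % 9) 1 = s ∧ n3 (k.val % 9) 0 = t := by
  obtain ⟨k, h1, h2, h3, h4, h5, h6⟩ := par_onto a b c d s t
  refine ⟨k, ?_, ?_, ?_, ?_, ?_, ?_⟩
  · rw [← h1]; exact congrArg Nat.cast (by simp only [dig]; omega)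
  · rw [← h2]; exact congrArg Nat.cast (by simp only [dig]; omega)
  · rw [← h3]; exact congrArg Nat.cast (by simp only [dig]; omega)
  · rw [← h4]; exact congrArg Nat.cast (by simp only [dig]; omega)
  · rw [← h5]; exact congrArg Nat.cast (by simp only [dig]; omega)
  · rw [← h6]; exact congrArg Nat.cast (by simp only [dig]; omega)

theorem pe_code (p : Par) : ∃ (c : Fin 729) (k : Fin 729), pe p = wW (uWord c) * wW (lWord k) := by
  obtain ⟨⟨a, b, c, d, e, f⟩, ⟨x, y, z, w⟩, s, t⟩ := p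
  obtain ⟨i, h1, h2, h3, h4, h5, h6⟩ := par_onto a b c d e f
  obtain ⟨k, g1, g2, g3, g4, g5, g6⟩ := lpar_onto x y z w s t
  exact ⟨i, k, by rw [wW_uWord, wW_lWord, h1, h2, h3, h4, h5, h6, g1, g2, g3, g4, g5, g6, pe, mul_assoc]⟩

noncomputable def U1 : Subgroup W where
  carrier := Set.range u1
  mul_mem' := by
    rintro _ _ ⟨v, rfl⟩ ⟨w, rfl⟩
    refine ⟨(v.1 + w.1, v.2.1 + w.2.1, v.2.2.1 + w.2.2.1, v.2.2.2.1 + w.2.2.2.1,
      v.2.2.2.2.1 + w.2.2.2.2.1, v.2.2.2.2.2 + w.2.2.2.2.2), wm_inj ?_⟩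
    rw [wm_mul, wm_u1, wm_u1, wm_u1, M1_add]
  one_mem' := ⟨(0, 0, 0, 0, 0, 0), wm_inj (by rw [wm_u1, wm_one]; exact M1_zero)⟩
  inv_mem' := by
    rintro _ ⟨v, rfl⟩
    refine ⟨-v, eq_inv_of_mul_eq_one_left (wm_inj ?_)⟩
    rw [wm_mul, wm_u1, wm_u1, wm_one, M1_add]
    simp only [Prod.fst_neg, Prod.snd_neg, neg_add_cancel]
    exact M1_zero

theorem uWord_mem (c : Fin 729) : wW (uWord c) ∈ U1 := ⟨_, (wW_uWord c).symm⟩

theorem lGens_conj (s : ℕ) (hs : s ∈ lGensL) {u : W} (hu : u ∈ U1) :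
    gW s * u * (gW s)⁻¹ ∈ U1 := by
  obtain ⟨⟨a, b, c, d, e, f⟩, rfl⟩ := hu
  obtain ⟨i, h1, h2, h3, h4, h5, h6⟩ := par_onto a b c d e f
  rw [← h1, ← h2, ← h3, ← h4, ← h5, ← h6, ← wW_uWord]
  have hw : ∀ x ∈ uWord i, ∃ b : Fin 6, x = 2 * b.val := by
    intro x hx
    simp only [uWord, List.mem_append, List.mem_replicate] at hx
    rcases hx with ((((h | h) | h) | h) | h) | h
    exacts [⟨0, h.2⟩, ⟨1, h.2⟩, ⟨2, h.2⟩, ⟨3, h.2⟩, ⟨4, h.2⟩, ⟨5, h.2⟩]
  generalize uWord i = w at hw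
  induction w with
  | nil => simp [wW, one_mem]
  | cons x w ih =>
    have hb : gW s * gW x * (gW s)⁻¹ ∈ U1 := by
      obtain ⟨n, hn, rfl⟩ := List.mem_iff_getElem.1 hs
      obtain ⟨b, rfl⟩ := hw x List.mem_cons_self
      have h24 : n < 24 := hn
      have := List.all_eq_true.1 (List.all_eq_true.1 conjU_check n (List.mem_range.2 h24)) b.val
        (List.mem_range.2 b.2)
      rw [Bool.and_eq_true, decide_eq_true_eq] at this
      obtain ⟨hlt, he⟩ := this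
      rw [List.getD_eq_getElem lGensL 0 hn] at he
      rw [show gW lGensL[n] * gW (2 * b.val) * (gW lGensL[n])⁻¹ = wW (uWord (⟨_, hlt⟩ : Fin 729)) from
        wm_inj (by
          exact (dec_cj _ (x := gW (2 * b.val)) (wm_gW _).symm).symm.trans
            (((eqM_iff _ _).1 he).trans (dec_wF _)))]
      exact uWord_mem _
    have hr := ih fun y hy => hw y (List.mem_cons_of_mem _ hy)
    have := mul_mem hb hr
    rw [wW]
    convert this using 1
    group

theorem lPath_conj : ∀ (p : List ℕ), (∀ s ∈ p, s ∈ lGensL) → ∀ {u : W}, u ∈ U1 →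
    wW p * u * (wW p)⁻¹ ∈ U1
  | [], _, u, hu => by simpa [wW] using hu
  | s :: p, h, u, hu => by
    have := lGens_conj s (h s List.mem_cons_self)
      (lPath_conj p (fun t ht => h t (List.mem_cons_of_mem _ ht)) hu)
    rw [wW]
    convert this using 1
    group

theorem midNe_not_U1 {m : FM} (h : midNe m = true) {u : W} (hu : u ∈ U1) : dec m ≠ wm u := by
  obtain ⟨v, rfl⟩ := hu
  intro he
  rw [wm_u1] at he
  have hval : ∀ (b s : Bool) (i j : ℕ), val b s = (if i = j then 1 else 0) →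
      (b != (i == j) || (b && s)) = false := by
    intro b s i j
    by_cases e : i = j <;> cases b <;> cases s <;> simp [e, val] <;> decide
  simp only [midNe, List.any_eq_true] at h
  obtain ⟨i, hi, j, hj, h⟩ := h
  have hi8 : i < 8 ∧ 1 ≤ i ∧ i ≤ 6 := by simp at hi; omega
  have hj8 : j < 8 ∧ 1 ≤ j ∧ j ≤ 6 := by simp at hj; omega
  have h0 := congrFun (congrFun he ⟨i, hi8.1⟩) ⟨j, hj8.1⟩
  rw [hval _ _ i j (h0.trans ?_)] at h
  · exact Bool.false_ne_true h
  · have key : ∀ a b : Fin 8, 1 ≤ a.val → a.val ≤ 6 → 1 ≤ b.val → b.val ≤ 6 →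
        M1 v.1 v.2.1 v.2.2.1 v.2.2.2.1 v.2.2.2.2.1 v.2.2.2.2.2 a b = if a.val = b.val then 1 else 0 := by
      intro a b
      fin_cases a <;> fin_cases b <;> simp [M1]
    exact key _ _ hi8.2.1 hi8.2.2 hj8.2.1 hj8.2.2

theorem lWord_lGens : ∀ k : Fin 729, ∀ s ∈ lWord k, s ∈ lGensL := by
  intro k s hs
  simp only [lWord, List.mem_append, List.mem_replicate] at hs
  rcases hs with ((((h | h) | h) | h) | h) | h <;> rw [h.2] <;> decide

theorem stepA {x : W} (hx : x ∈ PS) (h3 : x ^ 3 = 1) :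
    ∃ (g : W) (c : Fin 729) (r : Fin 5), g * x * g⁻¹ = wW (uWord c) * wW (lWord (repL.getD r 0)) := by
  obtain ⟨p, rfl⟩ := hx
  obtain ⟨c, k, hp⟩ := pe_code p
  rw [hp] at h3 ⊢
  set u := wW (uWord c)
  set l := wW (lWord k) with hl
  have hu : u ∈ U1 := uWord_mem c
  have hk := List.all_eq_true.1 stepA_check k.val (List.mem_range.2 k.2)
  rw [Bool.or_eq_true] at hk
  rcases hk with hk | hk
  · exfalso
    have hc1 := lPath_conj (lWord k) (lWord_lGens k) hu
    have hc2 := lPath_conj (lWord k) (lWord_lGens k) hc1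
    have hmem : l ^ 3 ∈ U1 := by
      have e : (u * (l * u * l⁻¹) * (l * (l * u * l⁻¹) * l⁻¹)) * l ^ 3 = (u * l) ^ 3 := by
        simp only [pow_succ, pow_zero, one_mul]; group
      rw [h3] at e
      rw [eq_inv_of_mul_eq_one_right e]
      exact inv_mem (mul_mem (mul_mem hu hc1) hc2)
    refine midNe_not_U1 hk hmem ?_
    rw [dec_mul, dec_mul, lF, dec_wF, pow_succ', pow_two, wm_mul, wm_mul]
  · simp only [Bool.and_eq_true, decide_eq_true_eq, List.all_eq_true, List.contains_iff_mem] at hk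
    obtain ⟨⟨hpath, hr⟩, he⟩ := hk
    set q := pathA.getD k.val []
    obtain ⟨⟨a, b, c', d, e, f⟩, hv⟩ := lPath_conj q hpath hu
    obtain ⟨i, h1, h2, h3', h4, h5, h6⟩ := par_onto a b c' d e f
    refine ⟨wW q, i, ⟨_, hr⟩, ?_⟩
    have hl' : wW q * l * (wW q)⁻¹ = wW (lWord (repL.getD (repA.getD k.val 0) 0)) := wm_inj (by
      rw [← dec_cjW q (x := l) (dec_wF _), ← dec_wF]
      exact (eqM_iff _ _).1 he)
    rw [wW_uWord, h1, h2, h3', h4, h5, h6, hv, ← hl']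
    group

end H7.O8
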