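import Cfsg.Agent.H7.O8.Setup

/-! A Sylow `3`-subgroup of `Ω⁺₈(3)`. -/

set_option autoImplicit false
set_option maxHeartbeats 2000000

namespace H7.O8

open Matrix

variable {R : Type*} [CommRing R]

def M1 (a b c d e f : R) : Matrix (Fin 8) (Fin 8) R :=
  !![1, -f, -e, -d, -c, -b, -a, -(a * f + b * e + c * d);
     0, 1, 0, 0, 0, 0, 0, a;
     0, 0, 1, 0, 0, 0, 0, b;
     0, 0, 0, 1, 0, 0, 0, c;
     0, 0, 0, 0, 1, 0, 0, d;
     0, 0, 0, 0, 0, 1, 0, e;
     0, 0, 0, 0, 0, 0, 1, f;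
     0, 0, 0, 0, 0, 0, 0, 1]

def M2 (a b c d : R) : Matrix (Fin 8) (Fin 8) R :=
  !![1, 0, 0, 0, 0, 0, 0, 0;
     0, 1, -d, -c, -b, -a, -(a * d + b * c), 0;
     0, 0, 1, 0, 0, 0, a, 0;
     0, 0, 0, 1, 0, 0, b, 0;
     0, 0, 0, 0, 1, 0, c, 0;
     0, 0, 0, 0, 0, 1, d, 0;
     0, 0, 0, 0, 0, 0, 1, 0;
     0, 0, 0, 0, 0, 0, 0, 1]

def M3 (s t : R) : Matrix (Fin 8) (Fin 8) R :=
  !![1, 0, 0, 0, 0, 0, 0, 0;
     0, 1, 0, 0, 0, 0, 0, 0;
     0, 0, 1, -t, -s, -(s * t), 0, 0;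
     0, 0, 0, 1, 0, s, 0, 0;
     0, 0, 0, 0, 1, t, 0, 0;
     0, 0, 0, 0, 0, 1, 0, 0;
     0, 0, 0, 0, 0, 0, 1, 0;
     0, 0, 0, 0, 0, 0, 0, 1]

theorem M1_add (a b c d e f a' b' c' d' e' f' : R) :
    M1 a b c d e f * M1 a' b' c' d' e' f' = M1 (a + a') (b + b') (c + c') (d + d') (e + e') (f + f') := by
  ext i j
  fin_cases i <;> fin_cases j <;> simp [M1, Matrix.mul_apply, Fin.sum_univ_eight] <;> ring

theorem M2_add (a b c d a' b' c' d' : R) :
    M2 a b c d * M2 a' b' c' d' = M2 (a + a') (b + b') (c + c') (d + d') := by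
  ext i j
  fin_cases i <;> fin_cases j <;> simp [M2, Matrix.mul_apply, Fin.sum_univ_eight] <;> ring

theorem M3_add (s t s' t' : R) : M3 s t * M3 s' t' = M3 (s + s') (t + t') := by
  ext i j
  fin_cases i <;> fin_cases j <;> simp [M3, Matrix.mul_apply, Fin.sum_univ_eight] <;> ring

theorem M2_M1 (x y z w a b c d e f : R) : M2 x y z w * M1 a b c d e f =
    M1 (a - w * b - z * c - y * d - x * e - (x * w + y * z) * f) (b + x * f) (c + y * f) (d + z * f)
      (e + w * f) f * M2 x y z w := by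
  ext i j
  fin_cases i <;> fin_cases j <;> simp [M1, M2, Matrix.mul_apply, Fin.sum_univ_eight] <;> ring

theorem M3_M1 (s t a b c d e f : R) : M3 s t * M1 a b c d e f =
    M1 a (b - t * c - s * d - s * t * e) (c + s * e) (d + t * e) e f * M3 s t := by
  ext i j
  fin_cases i <;> fin_cases j <;> simp [M1, M3, Matrix.mul_apply, Fin.sum_univ_eight] <;> ring

theorem M3_M2 (s t a b c d : R) : M3 s t * M2 a b c d =
    M2 (a - t * b - s * c - s * t * d) (b + s * d) (c + t * d) d * M3 s t := by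
  ext i j
  fin_cases i <;> fin_cases j <;> simp [M2, M3, Matrix.mul_apply, Fin.sum_univ_eight] <;> ring

theorem M1_zero : M1 (0 : R) 0 0 0 0 0 = 1 := by
  ext i j
  fin_cases i <;> fin_cases j <;> simp [M1]

theorem M2_zero : M2 (0 : R) 0 0 0 = 1 := by
  ext i j
  fin_cases i <;> fin_cases j <;> simp [M2]

theorem M3_zero : M3 (0 : R) 0 = 1 := by
  ext i j
  fin_cases i <;> fin_cases j <;> simp [M3]

theorem M1_iso (a b c d e f : F3) : (M1 a b c d e f)ᵀ * J * M1 a b c d e f = J := by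
  ext i j
  fin_cases i <;> fin_cases j <;> simp [M1, J, Matrix.mul_apply, Fin.sum_univ_eight] <;> ring

theorem M2_iso (a b c d : F3) : (M2 a b c d)ᵀ * J * M2 a b c d = J := by
  ext i j
  fin_cases i <;> fin_cases j <;> simp [M2, J, Matrix.mul_apply, Fin.sum_univ_eight] <;> ring

theorem M3_iso (s t : F3) : (M3 s t)ᵀ * J * M3 s t = J := by
  ext i j
  fin_cases i <;> fin_cases j <;> simp [M3, J, Matrix.mul_apply, Fin.sum_univ_eight] <;> ring

theorem three_eq (x : F3) : x + (x + x) = 0 := by revert x; decide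

noncomputable def u1 (v : F3 × F3 × F3 × F3 × F3 × F3) : W :=
  ⟨mkO (M1 v.1 v.2.1 v.2.2.1 v.2.2.2.1 v.2.2.2.2.1 v.2.2.2.2.2) (M1_iso ..), mem_W_of_cube (mat_inj (by
    rw [mat_pow, mat_mkO, pow_succ', pow_two, M1_add, M1_add, mat_one]
    simp only [three_eq]
    exact M1_zero))⟩

noncomputable def u2 (w : F3 × F3 × F3 × F3) : W :=
  ⟨mkO (M2 w.1 w.2.1 w.2.2.1 w.2.2.2) (M2_iso ..), mem_W_of_cube (mat_inj (by
    rw [mat_pow, mat_mkO, pow_succ', pow_two, M2_add, M2_add, mat_one]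
    simp only [three_eq]
    exact M2_zero))⟩

noncomputable def u3 (c : F3 × F3) : W :=
  ⟨mkO (M3 c.1 c.2) (M3_iso ..), mem_W_of_cube (mat_inj (by
    rw [mat_pow, mat_mkO, pow_succ', pow_two, M3_add, M3_add, mat_one]
    simp only [three_eq]
    exact M3_zero))⟩

theorem wm_u1 (v : F3 × F3 × F3 × F3 × F3 × F3) :
    wm (u1 v) = M1 v.1 v.2.1 v.2.2.1 v.2.2.2.1 v.2.2.2.2.1 v.2.2.2.2.2 := mat_mkO _ (M1_iso ..)
theorem wm_u2 (w : F3 × F3 × F3 × F3) : wm (u2 w) = M2 w.1 w.2.1 w.2.2.1 w.2.2.2 := mat_mkO _ (M2_iso ..)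
theorem wm_u3 (c : F3 × F3) : wm (u3 c) = M3 c.1 c.2 := mat_mkO _ (M3_iso ..)

abbrev Par := (F3 × F3 × F3 × F3 × F3 × F3) × (F3 × F3 × F3 × F3) × (F3 × F3)

noncomputable def pe (p : Par) : W := u1 p.1 * u2 p.2.1 * u3 p.2.2

theorem wm_pe (p : Par) : wm (pe p) =
    M1 p.1.1 p.1.2.1 p.1.2.2.1 p.1.2.2.2.1 p.1.2.2.2.2.1 p.1.2.2.2.2.2 *
      M2 p.2.1.1 p.2.1.2.1 p.2.1.2.2.1 p.2.1.2.2.2 * M3 p.2.2.1 p.2.2.2 := by
  rw [pe, wm_mul, wm_mul, wm_u1, wm_u2, wm_u3]

theorem pe_mul (p q : Par) : ∃ r, pe r = pe p * pe q := by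
  obtain ⟨⟨a, b, c, d, e, f⟩, ⟨x, y, z, w⟩, s, t⟩ := p
  obtain ⟨⟨a', b', c', d', e', f'⟩, ⟨x', y', z', w'⟩, s', t'⟩ := q
  refine ⟨((a + (a' - w * (b' - t * c' - s * d' - s * t * e') - z * (c' + s * e') - y * (d' + t * e') -
        x * e' - (x * w + y * z) * f'), b + (b' - t * c' - s * d' - s * t * e' + x * f'),
      c + (c' + s * e' + y * f'), d + (d' + t * e' + z * f'), e + (e' + w * f'), f + f'),
    (x + (x' - t * y' - s * z' - s * t * w'), y + (y' + s * w'), z + (z' + t * w'), w + w'),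
    (s + s', t + t')), wm_inj ?_⟩
  rw [wm_mul, wm_pe, wm_pe, wm_pe]
  symm
  simp only [← Matrix.mul_assoc]
  rw [Matrix.mul_assoc (M1 a b c d e f * M2 x y z w) (M3 s t), M3_M1, ← Matrix.mul_assoc]
  rw [Matrix.mul_assoc (M1 a b c d e f) (M2 x y z w), M2_M1, ← Matrix.mul_assoc, M1_add]
  rw [Matrix.mul_assoc _ (M3 s t) (M2 x' y' z' w'), M3_M2, ← Matrix.mul_assoc,
    Matrix.mul_assoc _ (M2 x y z w) (M2 _ _ _ _), M2_add, Matrix.mul_assoc _ (M3 s t) (M3 s' t'), M3_add]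

theorem pe_injective : Function.Injective pe := by
  intro p q h
  have h' : wm (pe p) = wm (pe q) := congrArg wm h
  obtain ⟨⟨a, b, c, d, e, f⟩, ⟨x, y, z, w⟩, s, t⟩ := p
  obtain ⟨⟨a', b', c', d', e', f'⟩, ⟨x', y', z', w'⟩, s', t'⟩ := q
  rw [wm_pe, wm_pe] at h'
  have k := fun i j => congrFun (congrFun h' i) j
  have h1 := k 1 7
  have h2 := k 2 7
  have h3 := k 3 7
  have h4 := k 4 7
  have h5 := k 5 7
  have h6 := k 6 7
  have h7 := k 2 6
  have h8 := k 3 6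
  have h9 := k 4 6
  have h10 := k 5 6
  have h11 := k 3 5
  have h12 := k 4 5
  simp [Matrix.mul_apply, Fin.sum_univ_eight, M1, M2, M3] at h1 h2 h3 h4 h5 h6 h7 h8 h9 h10 h11 h12
  subst h1 h2 h3 h4 h5 h6 h7 h8 h9 h10 h11 h12
  rfl

noncomputable def PS : Subgroup W where
  carrier := Set.range pe
  mul_mem' := by
    rintro _ _ ⟨p, rfl⟩ ⟨q, rfl⟩
    exact pe_mul p q
  one_mem' := ⟨((0, 0, 0, 0, 0, 0), (0, 0, 0, 0), (0, 0)), wm_inj (by
    rw [wm_pe, M1_zero, M2_zero, M3_zero, Matrix.one_mul, Matrix.one_mul, wm_one])⟩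
  inv_mem' := by
    rintro x ⟨p, rfl⟩
    have hpow : ∀ n, pe p ^ (n + 1) ∈ Set.range pe := by
      intro n
      induction n with
      | zero => exact ⟨p, (pow_one _).symm⟩
      | succ n ih =>
        obtain ⟨q, hq⟩ := ih
        rw [pow_succ _ (n + 1), ← hq]
        exact pe_mul q p
    have ho := orderOf_pos (pe p)
    rcases Nat.lt_or_ge 1 (orderOf (pe p)) with h1 | h1
    · have : (pe p)⁻¹ = pe p ^ (orderOf (pe p) - 2 + 1) := by
        refine inv_eq_of_mul_eq_one_right ?_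
        rw [← pow_succ', show orderOf (pe p) - 2 + 1 + 1 = orderOf (pe p) by omega, pow_orderOf_eq_one]
      rw [this]; exact hpow _
    · have h1' : pe p = 1 := orderOf_eq_one_iff.1 (by omega)
      rw [h1', inv_one, ← h1']
      exact ⟨p, rfl⟩

theorem PS_card : Nat.card PS = 3 ^ 12 := by
  rw [show Nat.card PS = Nat.card (Set.range pe) from rfl,
    Nat.card_range_of_injective pe_injective]
  simp [Nat.card_eq_fintype_card, Par, ZMod.card]

theorem W_card : ∃ c, Nat.card W = 3 ^ 12 * c ∧ ¬ 3 ∣ c := by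
  have hsmall : Nat.card (Subgroup.center W) = 1 ∨ Nat.card (Subgroup.center W) = 2 := by
    have hle : Nat.card (Subgroup.center W) ≤ 2 := by
      classical
      let φ : Subgroup.center W → Bool := fun z => decide (z.1 = 1)
      have hφ : Function.Injective φ := fun u v h => by
        simp only [φ, decide_eq_decide] at h
        apply Subtype.ext
        rcases center_cases u.2 with hu | hu
        · rw [hu, h.1 hu]
        rcases center_cases v.2 with hv | hv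
        · rw [hv, h.2 hv]
        exact Subtype.ext (hu.trans hv.symm)
      exact (Nat.card_le_card_of_injective φ hφ).trans (by simp)
    have := Nat.card_pos (α := Subgroup.center W)
    omega
  have h := Subgroup.card_eq_card_quotient_mul_card_subgroup (Subgroup.center W)
  rw [show Nat.card (W ⧸ Subgroup.center W) = 3 ^ 12 * (80 * 640 * 728 / 4) from P_card] at h
  rcases hsmall with e | e <;> rw [e] at h
  · exact ⟨80 * 640 * 728 / 4, by rw [h, mul_one], by norm_num⟩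
  · exact ⟨80 * 640 * 728 / 4 * 2, by rw [h, mul_assoc], by norm_num⟩

/-- Every element of order dividing `3` is conjugate to an element of `PS`. -/
theorem exists_conj_PS (x : W) (hx : x ^ 3 = 1) : ∃ g : W, g * x * g⁻¹ ∈ PS := by
  haveI : Fact (Nat.Prime 3) := ⟨by norm_num⟩
  obtain ⟨c, hc, hc3⟩ := W_card
  have hc0 : c ≠ 0 := fun e => hc3 (by simp [e])
  have hfac : (Nat.card W).factorization 3 = 12 := by
    rw [hc, Nat.factorization_mul (pow_ne_zero _ (by norm_num)) hc0,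
      Nat.Prime.factorization_pow (by norm_num)]
    simp [Nat.factorization_eq_zero_of_not_dvd hc3]
  let S : Sylow 3 W := Sylow.ofCard PS (by rw [hfac, PS_card])
  have hp : IsPGroup 3 (Subgroup.zpowers x) := by
    refine IsPGroup.iff_card.2 ?_
    rw [Nat.card_zpowers]
    rcases (Nat.dvd_prime (by norm_num : Nat.Prime 3)).1 (orderOf_dvd_of_pow_eq_one hx) with h | h
    · exact ⟨0, by rw [h]; rfl⟩
    · exact ⟨1, by rw [h]; rfl⟩
  obtain ⟨T, hT⟩ := hp.exists_le_sylow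
  obtain ⟨g, hg⟩ := MulAction.exists_smul_eq W T S
  refine ⟨g, ?_⟩
  have h1 : g * x * g⁻¹ ∈ ((g • T : Sylow 3 W) : Subgroup W) :=
    ⟨x, hT (Subgroup.mem_zpowers x), by simp [MulAut.smul_def]⟩
  rw [hg] at h1
  exact h1

end H7.O8
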