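import Cfsg.Agent.H43.D4.OutD4
import Cfsg.Agent.H38.POmegaStd
import Cfsg.Agent.H7.O8.Mat

/-! Matrices for `Ω⁺₈(3)`. -/

set_option autoImplicit false

namespace H7.O8

open Matrix H43 H43.D4 H43.AutPO
open scoped commutatorElement

abbrev V := V8 F3
noncomputable abbrev Q : QuadraticForm F3 V := onorm F3
noncomputable abbrev OG : Subgroup (V ≃ₗ[F3] V) := O8 F3
noncomputable abbrev W : Subgroup OG := Om Q
noncomputable abbrev P : Type := POm Q

def sigma : Fin 8 ≃ Fin 4 ⊕ Fin 4 where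
  toFun := ![.inl 0, .inl 1, .inl 2, .inl 3, .inr 3, .inr 2, .inr 1, .inr 0]
  invFun := Sum.elim ![0, 1, 2, 3] ![7, 6, 5, 4]
  left_inv i := by fin_cases i <;> rfl
  right_inv i := by rcases i with i | i <;> fin_cases i <;> rfl

def toC : V ≃ₗ[F3] Vc where
  toFun v := v ∘ sigma
  invFun v := v ∘ sigma.symm
  map_add' _ _ := rfl
  map_smul' _ _ := rfl
  left_inv v := by funext i; simp
  right_inv v := by funext i; simp

def qc (v : Vc) : F3 := v 0 * v 7 + v 1 * v 6 + v 2 * v 5 + v 3 * v 4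

theorem qc_toC (v : V) : qc (toC v) = Q v := by
  show _ = onorm F3 v
  rw [onorm_apply]
  rfl

def J : M8 := !![0,0,0,0,0,0,0,1; 0,0,0,0,0,0,1,0; 0,0,0,0,0,1,0,0; 0,0,0,0,1,0,0,0;
  0,0,0,1,0,0,0,0; 0,0,1,0,0,0,0,0; 0,1,0,0,0,0,0,0; 1,0,0,0,0,0,0,0]

theorem J_sq : J * J = 1 := by decide +kernel

theorem qc_eq_J (v : Vc) : qc v = 2 * (v ⬝ᵥ (J *ᵥ v)) := by
  simp [qc, J, dotProduct, mulVec, Fin.sum_univ_eight]
  have h4 : (2 : F3) * 2 = 1 := by decide
  ring_nf
  linear_combination (-(v 0 * v 7) - v 1 * v 6 - v 2 * v 5 - v 3 * v 4) * h4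

theorem polB_J (u v : V) : polB Q u v = toC u ⬝ᵥ (J *ᵥ toC v) := by
  show polB (onorm F3) u v = _
  rw [onorm_polB]
  simp [toC, sigma, J, dotProduct, mulVec, Fin.sum_univ_eight]
  ring

noncomputable def mat (g : OG) : M8 :=
  LinearMap.toMatrix' ((toC.symm.trans (g.1.trans toC)) : Vc →ₗ[F3] Vc)

theorem mat_mulVec (g : OG) (v : V) : mat g *ᵥ toC v = toC (g.1 v) := by
  rw [mat, LinearMap.toMatrix'_mulVec]
  simp

theorem mat_mul (g h : OG) : mat (g * h) = mat g * mat h := by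
  refine Matrix.ext_iff_mulVec.2 fun v => ?_
  obtain ⟨v, rfl⟩ := toC.surjective v
  rw [← mulVec_mulVec, mat_mulVec, mat_mulVec, mat_mulVec]
  rfl

theorem mat_one : mat 1 = 1 := by
  refine Matrix.ext_iff_mulVec.2 fun v => ?_
  obtain ⟨v, rfl⟩ := toC.surjective v
  rw [mat_mulVec, one_mulVec]
  rfl

theorem mat_inj {g h : OG} (e : mat g = mat h) : g = h := by
  refine orth_ext fun v => toC.injective ?_
  rw [← mat_mulVec, ← mat_mulVec, e]

theorem mat_pow (g : OG) (n : ℕ) : mat (g ^ n) = mat g ^ n := by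
  induction n with
  | zero => exact mat_one
  | succ n ih => rw [pow_succ, mat_mul, ih, pow_succ]

theorem iso_of_eq {M : M8} (h : Mᵀ * J * M = J) (v : Vc) : qc (M *ᵥ v) = qc v := by
  rw [qc_eq_J, qc_eq_J, mulVec_mulVec, dotProduct_mulVec, ← vecMul_transpose, vecMul_vecMul,
    ← Matrix.mul_assoc, h, ← dotProduct_mulVec]

theorem mat_iso (g : OG) : (mat g)ᵀ * J * mat g = J := by
  ext i j
  obtain ⟨u, hu⟩ := toC.surjective (Pi.single i 1)
  obtain ⟨v, hv⟩ := toC.surjective (Pi.single j 1)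
  have h := polB_orth8 g u v
  rw [polB_J, polB_J, ← mat_mulVec, ← mat_mulVec, hu, hv, mulVec_mulVec, dotProduct_mulVec,
    ← mulVec_transpose, mulVec_mulVec, ← vecMul_transpose] at h
  simpa [Matrix.mul_assoc, dotProduct_single_one, single_one_dotProduct] using h

/-- The linear map of a matrix. -/
noncomputable def mkE (M : M8) (N : M8) (h₁ : M * N = 1) (h₂ : N * M = 1) : V ≃ₗ[F3] V :=
  toC.trans ((Matrix.toLin'OfInv h₁ h₂).symm.trans toC.symm)

theorem mem_OG_iff (g : V ≃ₗ[F3] V) : g ∈ OG ↔ ∀ v, Q (g v) = Q v := Iff.rfl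

theorem toC_mkE (M N : M8) (h₁ : M * N = 1) (h₂ : N * M = 1) (v : V) :
    toC (mkE M N h₁ h₂ v) = M *ᵥ toC v := by
  simp [mkE, Matrix.toLin'OfInv, Matrix.toLin'_apply]

theorem inv_eq_J {M : M8} (h : Mᵀ * J * M = J) : J * Mᵀ * J * M = 1 := by
  rw [Matrix.mul_assoc J, Matrix.mul_assoc J, h, J_sq]

/-- Build an isometry. -/
noncomputable def mkO (M : M8) (h : Mᵀ * J * M = J) : OG :=
  ⟨mkE M (J * Mᵀ * J) (mul_eq_one_comm.1 (inv_eq_J h)) (inv_eq_J h), (mem_OG_iff _).2 fun v => by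
    rw [← qc_toC, toC_mkE, iso_of_eq h, qc_toC]⟩

theorem mat_mkO (M : M8) (h : Mᵀ * J * M = J) : mat (mkO M h) = M := by
  refine Matrix.ext_iff_mulVec.2 fun v => ?_
  obtain ⟨v, rfl⟩ := toC.surjective v
  rw [mat_mulVec]
  exact toC_mkE _ _ _ _ v

theorem sq_mem_W (g : OG) : g * g ∈ W := by
  have hcomm : ∀ a b : OG, (QuotientGroup.mk a : OG ⧸ W) * QuotientGroup.mk b =
      QuotientGroup.mk b * QuotientGroup.mk a := fun a b => by
    rw [← commutatorElement_eq_one_iff_mul_comm]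
    show ⁅QuotientGroup.mk' W a, QuotientGroup.mk' W b⁆ = 1
    rw [← map_commutatorElement]
    exact (QuotientGroup.eq_one_iff _).2
      (Subgroup.commutator_mem_commutator (Subgroup.mem_top a) (Subgroup.mem_top b))
  rw [← QuotientGroup.eq_one_iff]
  show (QuotientGroup.mk g : OG ⧸ W) * QuotientGroup.mk g = 1
  have hg : g ∈ Subgroup.closure (reflSet Q) := by
    rw [closure_reflSet (nd8 (F := F3)) gen8]; trivial
  induction hg using Subgroup.closure_induction with
  | mem x hx =>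
    obtain ⟨v, -, rfl⟩ := hx
    rw [← QuotientGroup.mk_mul, refl_sq]; rfl
  | one => exact one_mul _
  | mul a b _ _ ha hb =>
    calc (QuotientGroup.mk (a * b) : OG ⧸ W) * QuotientGroup.mk (a * b)
        = QuotientGroup.mk a * (QuotientGroup.mk b * QuotientGroup.mk a) * QuotientGroup.mk b := by
          simp only [QuotientGroup.mk_mul, mul_assoc]
      _ = (QuotientGroup.mk a * QuotientGroup.mk a) * (QuotientGroup.mk b * QuotientGroup.mk b) := by
          rw [hcomm b a]; simp only [mul_assoc]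
      _ = 1 := by rw [ha, hb, one_mul]
  | inv a _ ha => rw [QuotientGroup.mk_inv, ← _root_.mul_inv_rev, ha, inv_one]

theorem mem_W_of_cube {g : OG} (h : g ^ 3 = 1) : g ∈ W := by
  have e : g = (g * g) * (g * g) := by
    calc g = g ^ 3 * g := by rw [h, one_mul]
      _ = _ := by simp only [pow_succ, pow_zero, one_mul, mul_assoc]
  rw [e]
  exact mul_mem (sq_mem_W g) (sq_mem_W g)

/-- Matrix of an element of `Ω`. -/
noncomputable def wm (g : W) : M8 := mat g.1

theorem wm_inj {g h : W} (e : wm g = wm h) : g = h := Subtype.ext (mat_inj e)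
theorem wm_mul (g h : W) : wm (g * h) = wm g * wm h := mat_mul _ _
theorem wm_one : wm 1 = 1 := mat_one

instance finiteW : Finite W := finite_om (Q := Q)

instance finiteP : Finite P := Finite.of_surjective _ (pmk_surjective (Q := Q))

theorem center_cases {z : W} (hz : z ∈ Subgroup.center W) : z = 1 ∨ z.1 = negOrth Q :=
  (center_scalar (nd8 (F := F3)) (by rw [finrank8]; norm_num) z hz).imp
    (fun h => Subtype.ext h) id

theorem cube_center {z : W} (hz : z ∈ Subgroup.center W) (h3 : z ^ 3 = 1) : z = 1 := by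
  rcases center_cases hz with h | h
  · exact h
  exfalso
  have h' : z * z = 1 := Subtype.ext (by
    show z.1 * z.1 = 1
    rw [h]; exact orth_ext fun x => by simp [orth_mul_apply, negOrth_apply])
  have hz1 : z = 1 := by
    calc z = z ^ 3 := by rw [pow_succ, pow_two, h', one_mul]
      _ = 1 := h3
  have hn : negOrth Q = 1 := by rw [← h, hz1]; rfl
  have := congrArg (fun g : OG => g.1 (oone : V) (.inl 0)) hn
  simp [negOrth_apply, oone] at this
  revert this
  decide

/-- Elements of order dividing three of `PΩ` have at most one lift of order dividing three. -/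
theorem lift_unique {g h : W} (hg : g ^ 3 = 1) (hh : h ^ 3 = 1) (e : pmk Q g = pmk Q h) : g = h := by
  have hc : g⁻¹ * h ∈ Subgroup.center W := QuotientGroup.eq.1 e
  have hcomm : Commute g⁻¹ h := by
    have h2 : Commute g⁻¹ (g⁻¹ * h) := Subgroup.mem_center_iff.1 hc g⁻¹
    show g⁻¹ * h = h * g⁻¹
    calc g⁻¹ * h = g⁻¹ * (g * (g⁻¹ * h)) := by group
      _ = g * (g⁻¹ * (g⁻¹ * h)) := by group
      _ = g * ((g⁻¹ * h) * g⁻¹) := by rw [h2.eq]
      _ = h * g⁻¹ := by group
  exact inv_mul_eq_one.1 (cube_center hc (by rw [hcomm.mul_pow, inv_pow, hg, hh, inv_one, one_mul]))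

theorem exists_lift {x : P} (hx : x ^ 3 = 1) : ∃ g : W, g ^ 3 = 1 ∧ pmk Q g = x := by
  obtain ⟨k, rfl⟩ := pmk_surjective (Q := Q) x
  have hc : k ^ 3 ∈ Subgroup.center W := mem_center_of_pmk (by rw [map_pow]; exact hx)
  have h2 : k ^ 3 * k ^ 3 = 1 := by
    rcases center_cases hc with h | h
    · rw [h, mul_one]
    · refine Subtype.ext ?_
      show (k ^ 3 : W).1 * (k ^ 3 : W).1 = 1
      rw [h]; exact orth_ext fun x => by simp [orth_mul_apply, negOrth_apply]
  refine ⟨k ^ 4, ?_, ?_⟩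
  · rw [← pow_mul, show 4 * 3 = 3 + 3 + (3 + 3) from rfl, pow_add, pow_add, h2, mul_one]
  · rw [map_pow, pow_succ, hx, one_mul]

theorem P_card : Nat.card P = 3 ^ 12 * (80 * 640 * 728 / 4) := by
  have hc := H38.card_pomega_plus' (F := F3) 3 le_rfl
  rw [← show Nat.card P = Nat.card (Cfsg.POmega F3 (Cfsg.quadFormPlus 4 F3)) from
    (card_POm (qPlus 4 F3)).trans (by rw [coe_qPlus])] at hc
  simp [Finset.prod_range_succ, ZMod.card] at hc
  omega

end H7.O8
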