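import Cfsg.Agent.H7.O8.Gen
import Cfsg.Agent.H7.O8.StepData

/-! Kernel checks for the Levi step. -/

set_option autoImplicit false
set_option maxRecDepth 20000

set_option Elab.async false

namespace H7.O8

def dig (c k : ℕ) : ℕ := c / 3 ^ k % 3

def uWord (c : ℕ) : List ℕ :=
  List.replicate (dig c 5) 0 ++ List.replicate (dig c 4) 2 ++ List.replicate (dig c 3) 4 ++
    List.replicate (dig c 2) 6 ++ List.replicate (dig c 1) 8 ++ List.replicate (dig c 0) 10

def lWord (k : ℕ) : List ℕ :=
  List.replicate (dig k 5) 12 ++ List.replicate (dig k 4) 14 ++ List.replicate (dig k 3) 16 ++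
    List.replicate (dig k 2) 18 ++ List.replicate (dig k 1) 20 ++ List.replicate (dig k 0) 22

def u1F (c : ℕ) : FM := wF (uWord c)
def lF (k : ℕ) : FM := wF (lWord k)

def n3 (c k : ℕ) : F3 := (dig c k : F3)

/-- The middle block differs from the identity. -/
def midNe (m : FM) : Bool :=
  [1, 2, 3, 4, 5, 6].any fun i => [1, 2, 3, 4, 5, 6].any fun j =>
    (m.getD i (0, 0)).1.testBit j != (i == j) ||
      ((m.getD i (0, 0)).1.testBit j && (m.getD i (0, 0)).2.testBit j)

abbrev U1P (c : ℕ) : Prop :=
  dec (u1F c) = M1 (n3 c 5) (n3 c 4) (n3 c 3) (n3 c 2) (n3 c 1) (n3 c 0)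

theorem u1F_eq_0 : ∀ b : Fin 81, U1P (0 + b.val) := by decide +kernel

theorem u1F_eq_1 : ∀ b : Fin 81, U1P (81 + b.val) := by decide +kernel

theorem u1F_eq_2 : ∀ b : Fin 81, U1P (162 + b.val) := by decide +kernel

theorem u1F_eq_3 : ∀ b : Fin 81, U1P (243 + b.val) := by decide +kernel

theorem u1F_eq_4 : ∀ b : Fin 81, U1P (324 + b.val) := by decide +kernel

theorem u1F_eq_5 : ∀ b : Fin 81, U1P (405 + b.val) := by decide +kernel

theorem u1F_eq_6 : ∀ b : Fin 81, U1P (486 + b.val) := by decide +kernel

theorem u1F_eq_7 : ∀ b : Fin 81, U1P (567 + b.val) := by decide +kernel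

theorem u1F_eq_8 : ∀ b : Fin 81, U1P (648 + b.val) := by decide +kernel

theorem u1F_eq : ∀ c : Fin 729,
    dec (u1F c) = M1 (n3 c 5) (n3 c 4) (n3 c 3) (n3 c 2) (n3 c 1) (n3 c 0) := by
  intro c
  have hb : c.val % 81 < 81 := Nat.mod_lt _ (by norm_num)
  have hq : c.val / 81 < 9 := by have := c.isLt; omega
  have e := Nat.div_add_mod c.val 81
  show U1P c.val
  interval_cases h : c.val / 81
  · rw [show c.val = 0 + c.val % 81 by omega]; exact u1F_eq_0 ⟨_, hb⟩
  · rw [show c.val = 81 + c.val % 81 by omega]; exact u1F_eq_1 ⟨_, hb⟩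
  · rw [show c.val = 162 + c.val % 81 by omega]; exact u1F_eq_2 ⟨_, hb⟩
  · rw [show c.val = 243 + c.val % 81 by omega]; exact u1F_eq_3 ⟨_, hb⟩
  · rw [show c.val = 324 + c.val % 81 by omega]; exact u1F_eq_4 ⟨_, hb⟩
  · rw [show c.val = 405 + c.val % 81 by omega]; exact u1F_eq_5 ⟨_, hb⟩
  · rw [show c.val = 486 + c.val % 81 by omega]; exact u1F_eq_6 ⟨_, hb⟩
  · rw [show c.val = 567 + c.val % 81 by omega]; exact u1F_eq_7 ⟨_, hb⟩
  · rw [show c.val = 648 + c.val % 81 by omega]; exact u1F_eq_8 ⟨_, hb⟩

theorem u2F_eq : ∀ a : Fin 81,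
    dec (wF (lWord (9 * a.val))) = M2 (n3 a 3) (n3 a 2) (n3 a 1) (n3 a 0) := by
  decide +kernel

theorem u3F_eq : ∀ t : Fin 9, dec (wF (lWord t)) = M3 (n3 t 1) (n3 t 0) := by decide +kernel

theorem lWord_split : ∀ k : Fin 729, lWord k = lWord (9 * (k.val / 9)) ++ lWord (k.val % 9) := by
  decide +kernel

theorem conjU_check : (List.range 24).all (fun s => (List.range 6).all fun b =>
    decide ((conjU.getD s []).getD b 0 < 729) &&
      eqM (cj (lGensL.getD s 0) (gF (2 * b))) (u1F ((conjU.getD s []).getD b 0))) = true := by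
  decide +kernel

def stepAOk (k : ℕ) : Bool :=
    midNe (mul (lF k) (mul (lF k) (lF k))) ||
      ((pathA.getD k []).all (fun s => lGensL.contains s) && decide (repA.getD k 0 < 5) &&
        eqM (cjW (pathA.getD k []) (lF k)) (lF (repL.getD (repA.getD k 0) 0)))

theorem stepA_0 : (List.range 27).all (fun j => stepAOk (0 + j)) = true := by decide +kernel

theorem stepA_1 : (List.range 27).all (fun j => stepAOk (27 + j)) = true := by decide +kernel

theorem stepA_2 : (List.range 27).all (fun j => stepAOk (54 + j)) = true := by decide +kernel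

theorem stepA_3 : (List.range 27).all (fun j => stepAOk (81 + j)) = true := by decide +kernel

theorem stepA_4 : (List.range 27).all (fun j => stepAOk (108 + j)) = true := by decide +kernel

theorem stepA_5 : (List.range 27).all (fun j => stepAOk (135 + j)) = true := by decide +kernel

theorem stepA_6 : (List.range 27).all (fun j => stepAOk (162 + j)) = true := by decide +kernel

theorem stepA_7 : (List.range 27).all (fun j => stepAOk (189 + j)) = true := by decide +kernel

theorem stepA_8 : (List.range 27).all (fun j => stepAOk (216 + j)) = true := by decide +kernel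

theorem stepA_9 : (List.range 27).all (fun j => stepAOk (243 + j)) = true := by decide +kernel

theorem stepA_10 : (List.range 27).all (fun j => stepAOk (270 + j)) = true := by decide +kernel

theorem stepA_11 : (List.range 27).all (fun j => stepAOk (297 + j)) = true := by decide +kernel

theorem stepA_12 : (List.range 27).all (fun j => stepAOk (324 + j)) = true := by decide +kernel

theorem stepA_13 : (List.range 27).all (fun j => stepAOk (351 + j)) = true := by decide +kernel

theorem stepA_14 : (List.range 27).all (fun j => stepAOk (378 + j)) = true := by decide +kernel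

theorem stepA_15 : (List.range 27).all (fun j => stepAOk (405 + j)) = true := by decide +kernel

theorem stepA_16 : (List.range 27).all (fun j => stepAOk (432 + j)) = true := by decide +kernel

theorem stepA_17 : (List.range 27).all (fun j => stepAOk (459 + j)) = true := by decide +kernel

theorem stepA_18 : (List.range 27).all (fun j => stepAOk (486 + j)) = true := by decide +kernel

theorem stepA_19 : (List.range 27).all (fun j => stepAOk (513 + j)) = true := by decide +kernel

theorem stepA_20 : (List.range 27).all (fun j => stepAOk (540 + j)) = true := by decide +kernel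

theorem stepA_21 : (List.range 27).all (fun j => stepAOk (567 + j)) = true := by decide +kernel

theorem stepA_22 : (List.range 27).all (fun j => stepAOk (594 + j)) = true := by decide +kernel

theorem stepA_23 : (List.range 27).all (fun j => stepAOk (621 + j)) = true := by decide +kernel

theorem stepA_24 : (List.range 27).all (fun j => stepAOk (648 + j)) = true := by decide +kernel

theorem stepA_25 : (List.range 27).all (fun j => stepAOk (675 + j)) = true := by decide +kernel

theorem stepA_26 : (List.range 27).all (fun j => stepAOk (702 + j)) = true := by decide +kernel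

theorem stepA_check : (List.range 729).all (fun k =>
    midNe (mul (lF k) (mul (lF k) (lF k))) ||
      ((pathA.getD k []).all (fun s => lGensL.contains s) && decide (repA.getD k 0 < 5) &&
        eqM (cjW (pathA.getD k []) (lF k)) (lF (repL.getD (repA.getD k 0) 0)))) = true := by
  rw [List.all_eq_true]
  intro k hk
  rw [List.mem_range] at hk
  have hb : k % 27 ∈ List.range 27 := List.mem_range.2 (Nat.mod_lt _ (by norm_num))
  have hq : k / 27 < 27 := by omega
  show stepAOk k = true
  interval_cases h : k / 27
  · rw [show k = 0 + k % 27 by omega]; exact List.all_eq_true.1 stepA_0 _ hb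
  · rw [show k = 27 + k % 27 by omega]; exact List.all_eq_true.1 stepA_1 _ hb
  · rw [show k = 54 + k % 27 by omega]; exact List.all_eq_true.1 stepA_2 _ hb
  · rw [show k = 81 + k % 27 by omega]; exact List.all_eq_true.1 stepA_3 _ hb
  · rw [show k = 108 + k % 27 by omega]; exact List.all_eq_true.1 stepA_4 _ hb
  · rw [show k = 135 + k % 27 by omega]; exact List.all_eq_true.1 stepA_5 _ hb
  · rw [show k = 162 + k % 27 by omega]; exact List.all_eq_true.1 stepA_6 _ hb
  · rw [show k = 189 + k % 27 by omega]; exact List.all_eq_true.1 stepA_7 _ hb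
  · rw [show k = 216 + k % 27 by omega]; exact List.all_eq_true.1 stepA_8 _ hb
  · rw [show k = 243 + k % 27 by omega]; exact List.all_eq_true.1 stepA_9 _ hb
  · rw [show k = 270 + k % 27 by omega]; exact List.all_eq_true.1 stepA_10 _ hb
  · rw [show k = 297 + k % 27 by omega]; exact List.all_eq_true.1 stepA_11 _ hb
  · rw [show k = 324 + k % 27 by omega]; exact List.all_eq_true.1 stepA_12 _ hb
  · rw [show k = 351 + k % 27 by omega]; exact List.all_eq_true.1 stepA_13 _ hb
  · rw [show k = 378 + k % 27 by omega]; exact List.all_eq_true.1 stepA_14 _ hb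
  · rw [show k = 405 + k % 27 by omega]; exact List.all_eq_true.1 stepA_15 _ hb
  · rw [show k = 432 + k % 27 by omega]; exact List.all_eq_true.1 stepA_16 _ hb
  · rw [show k = 459 + k % 27 by omega]; exact List.all_eq_true.1 stepA_17 _ hb
  · rw [show k = 486 + k % 27 by omega]; exact List.all_eq_true.1 stepA_18 _ hb
  · rw [show k = 513 + k % 27 by omega]; exact List.all_eq_true.1 stepA_19 _ hb
  · rw [show k = 540 + k % 27 by omega]; exact List.all_eq_true.1 stepA_20 _ hb
  · rw [show k = 567 + k % 27 by omega]; exact List.all_eq_true.1 stepA_21 _ hb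
  · rw [show k = 594 + k % 27 by omega]; exact List.all_eq_true.1 stepA_22 _ hb
  · rw [show k = 621 + k % 27 by omega]; exact List.all_eq_true.1 stepA_23 _ hb
  · rw [show k = 648 + k % 27 by omega]; exact List.all_eq_true.1 stepA_24 _ hb
  · rw [show k = 675 + k % 27 by omega]; exact List.all_eq_true.1 stepA_25 _ hb
  · rw [show k = 702 + k % 27 by omega]; exact List.all_eq_true.1 stepA_26 _ hb

end H7.O8
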