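import Cfsg.Agent.H7.O8.Gen

/-! Triality and the basic reflection on root elements. -/

set_option autoImplicit false
set_option maxHeartbeats 1000000

namespace H7.O8

open Matrix H43 H43.D4 H43.AutPO

/-- Left multiplication in coordinates. -/
def Lx (x : Vc) : M8 := !![x 0, -x 6, 0, 0, -x 3, -x 2, 0, 0;
    x 1, x 7, -x 3, x 2, 0, 0, 0, 0;
    0, x 4, x 0, 0, -x 1, 0, 0, x 2;
    0, -x 5, 0, x 0, 0, x 1, 0, x 3;
    x 4, 0, x 6, 0, x 7, 0, -x 2, 0;
    x 5, 0, 0, -x 6, 0, x 7, x 3, 0;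
    0, 0, 0, 0, x 5, -x 4, x 0, x 6;
    0, 0, -x 5, -x 4, 0, 0, -x 1, x 7]

theorem toC_omul (x y : V) : toC (omul x y) = Lx (toC x) *ᵥ toC y := by
  funext k
  fin_cases k <;> simp [omul, Lx, toC, sigma, mulVec, dotProduct, Fin.sum_univ_eight] <;> ring

theorem Lx_basis (x : Vc) : Lx x = ∑ a, x a • Lx (Pi.single a 1) := by
  ext i j
  fin_cases i <;> fin_cases j <;>
    simp [Lx, Matrix.sum_apply, Fin.sum_univ_eight, Pi.single_apply]

/-- Generators occurring in the class representatives. -/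
def usedL : List ℕ := [0, 4, 6, 8, 10, 20, 22]

def tm (i : ℕ) : ℕ := tmL.getD i 0
def tm2 (i : ℕ) : ℕ := tm2L.getD i 0
def rg (i : ℕ) : ℕ := rgL.getD i 0

theorem tri_check : ∀ s : Fin 7, ∀ a : Fin 8,
    dec (gF (usedL.getD s 0)) * Lx (Pi.single a 1) =
      Lx (fun b => dec (gF (tm (usedL.getD s 0))) b a) * dec (gF (tm2 (usedL.getD s 0))) := by
  decide +kernel

theorem mem_used {i : ℕ} (h : i ∈ usedL) : ∃ s : Fin 7, usedL.getD s 0 = i := by
  obtain ⟨n, hn, rfl⟩ := List.mem_iff_getElem.1 h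
  exact ⟨⟨n, hn⟩, List.getD_eq_getElem _ _ hn⟩

variable {θ : MulAut P}

theorem theta_gW (hθ : Tria θ) {i : ℕ} (hi : i ∈ usedL) :
    θ (pmk Q (gW i)) = pmk Q (gW (tm i)) := by
  obtain ⟨s, rfl⟩ := mem_used hi
  set g := gW (usedL.getD s 0)
  set t := gW (tm (usedL.getD s 0))
  set t' := gW (tm2 (usedL.getD s 0))
  have hg : mat g.1 = dec (gF (usedL.getD s 0)) := wm_gW _
  have ht : mat t.1 = dec (gF (tm (usedL.getD s 0))) := wm_gW _
  have ht' : mat t'.1 = dec (gF (tm2 (usedL.getD s 0))) := wm_gW _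
  have hlin : ∀ xc : Vc, mat g.1 * Lx xc = Lx (mat t.1 *ᵥ xc) * mat t'.1 := by
    intro xc
    rw [Lx_basis xc, Matrix.mul_sum]
    simp only [Matrix.mul_smul, hg, ht', tri_check s]
    simp only [← Matrix.smul_mul, ← Matrix.sum_mul]
    congr 1
    rw [ht]
    generalize dec (gF (tm (usedL.getD s 0))) = T
    ext i j
    fin_cases i <;> fin_cases j <;>
      simp [Lx, Matrix.sum_apply, Fin.sum_univ_eight, mulVec, dotProduct] <;> ring
  have htri : IsTri g.1 (Semi.ofOrth t.1) (Semi.ofOrth t'.1) := by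
    refine ⟨rfl, rfl, fun x y => toC.injective ?_⟩
    show toC (g.1.1 (omul x y)) = toC (omul (t.1.1 x) (t'.1.1 y))
    rw [← mat_mulVec, toC_omul, toC_omul, ← mat_mulVec, ← mat_mulVec, mulVec_mulVec, mulVec_mulVec,
      hlin]
  have h := hθ.fst htri
  exact conj_pom_injective (h.symm.trans (orthHom_om t))

theorem theta_wW (hθ : Tria θ) : ∀ w : List ℕ, (∀ i ∈ w, i ∈ usedL) →
    θ (pmk Q (wW w)) = pmk Q (wW (w.map tm))
  | [], _ => by simp [wW]
  | i :: w, h => by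
    rw [wW, map_mul, map_mul, theta_gW hθ (h i List.mem_cons_self),
      theta_wW hθ w fun j hj => h j (List.mem_cons_of_mem _ hj), List.map_cons, wW, map_mul]

theorem mat_refl_oone : mat (refl Q (oone : V)) = dec RF := by
  refine Matrix.ext_iff_mulVec.2 fun v => ?_
  obtain ⟨v, rfl⟩ := toC.surjective v
  rw [mat_mulVec, refl_oone_apply]
  have e : dec RF = !![0,0,0,0,0,0,0,2; 0,1,0,0,0,0,0,0; 0,0,1,0,0,0,0,0; 0,0,0,1,0,0,0,0;
    0,0,0,0,1,0,0,0; 0,0,0,0,0,1,0,0; 0,0,0,0,0,0,1,0; 2,0,0,0,0,0,0,0] := by decide +kernel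
  rw [e]
  funext k
  fin_cases k <;> simp [oconj, toC, sigma, mulVec, dotProduct, Fin.sum_univ_eight] <;>
    (first
      | rfl
      | (rw [show (2 : F3) = -1 from by decide]; ring))

theorem rho_check : ∀ s : Fin 7, eqM (mul RF (mul (gF (usedL.getD s 0)) RF))
    (gF (rg (usedL.getD s 0))) = true := by decide +kernel

theorem rho_gW {i : ℕ} (hi : i ∈ usedL) : rho F3 (pmk Q (gW i)) = pmk Q (gW (rg i)) := by
  obtain ⟨s, rfl⟩ := mem_used hi
  show (Semi.ofOrth (refl Q (oone : V))).pAut (pmk Q _) = _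
  rw [Semi.pAut_pmk]
  refine congrArg _ (Subtype.ext ?_)
  set R : OG := refl Q (oone : V) with hR
  have h1 : ∀ x, ((Semi.ofOrth R).conjOm (gW (usedL.getD s 0))).1.1 x =
      R.1 ((gW (usedL.getD s 0)).1.1 (R.1 x)) := fun x => by
    obtain ⟨y, rfl⟩ := R.1.surjective x
    have h2 : R.1 (R.1 y) = y := by
      rw [← orth_mul_apply, hR, refl_sq]; rfl
    rw [h2]
    exact Semi.conjOm_map _ _ _
  have h3 : ((Semi.ofOrth R).conjOm (gW (usedL.getD s 0))).1 = R * (gW (usedL.getD s 0)).1 * R :=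
    orth_ext h1
  rw [h3]
  refine mat_inj ?_
  rw [mat_mul, mat_mul, hR, mat_refl_oone]
  have := (eqM_iff _ _).1 (rho_check s)
  rw [dec_mul, dec_mul, ← Matrix.mul_assoc] at this
  show dec RF * wm (gW _) * dec RF = wm (gW _)
  rw [wm_gW, wm_gW, this]

theorem rho_wW : ∀ w : List ℕ, (∀ i ∈ w, i ∈ usedL) →
    rho F3 (pmk Q (wW w)) = pmk Q (wW (w.map rg))
  | [], _ => by simp [wW]
  | i :: w, h => by
    rw [wW, map_mul, map_mul, rho_gW (h i List.mem_cons_self),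
      rho_wW w fun j hj => h j (List.mem_cons_of_mem _ hj), List.map_cons, wW, map_mul]

end H7.O8
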